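import Mathlib

/-!
# Square presentations and derivatives at a point
-/

universe u

open MvPolynomial

namespace Groth.PlaneCurve.NodeNormal

variable {R : Type u} [CommRing R] {ι : Type} {B : Type u} [CommRing B] [Algebra R B]

/-- The kernel of a presentation from a retraction. -/
theorem ker_eq_span (π : MvPolynomial ι R →ₐ[R] B) (v : ι → MvPolynomial ι R) (hv : ∀ i, π (v i) = 0)
    (ψ : B →+* MvPolynomial ι R ⧸ Ideal.span (Set.range v))
    (hψ : ∀ y, ψ (π y) = Ideal.Quotient.mk _ y) :
    RingHom.ker π = Ideal.span (Set.range v) := by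
  refine le_antisymm (fun y hy => ?_) (Ideal.span_le.2 ?_)
  · rw [← Ideal.Quotient.eq_zero_iff_mem, ← hψ, (RingHom.mem_ker).1 hy, map_zero]
  · rintro _ ⟨i, rfl⟩
    exact hv i

/-- A square presentation with invertible Jacobian determinant is étale. -/
theorem etale_of_square [Fintype ι] [DecidableEq ι] (π : MvPolynomial ι R →ₐ[R] B)
    (hπ : Function.Surjective π) (v : ι → MvPolynomial ι R)
    (hker : RingHom.ker π = Ideal.span (Set.range v))
    (hu : IsUnit (π (Matrix.of fun i j => pderiv j (v i)).det)) : Algebra.Etale R B := by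
  let Q := MvPolynomial ι R ⧸ Ideal.span (Set.range v)
  let eQ : Q ≃ₐ[R] B := (Ideal.quotientEquivAlgOfEq R hker.symm).trans
    (Ideal.quotientKerAlgEquivOfSurjective hπ)
  have heQ : ∀ y, eQ (Ideal.Quotient.mk _ y) = π y := fun y => rfl
  let Pre : Algebra.PreSubmersivePresentation R Q ι ι :=
    Algebra.PreSubmersivePresentation.naive (v := v) id Function.injective_id
  have hjac : IsUnit Pre.jacobian := by
    rw [Algebra.PreSubmersivePresentation.jacobian_eq_jacobiMatrix_det,
      Algebra.Generators.algebraMap_apply,
      show aeval Pre.val Pre.jacobiMatrix.det = Ideal.Quotient.mk (Ideal.span (Set.range v))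
        Pre.jacobiMatrix.det from AlgHom.congr_fun (show aeval Pre.val =
          Ideal.Quotient.mkₐ R (Ideal.span (Set.range v)) from
            MvPolynomial.algHom_ext fun i => aeval_X _ i) _]
    have hN : Pre.jacobiMatrix = (Matrix.of fun i j => pderiv j (v i)).transpose := by
      ext i j : 2
      rw [Matrix.transpose_apply, Algebra.PreSubmersivePresentation.jacobiMatrix_naive]
      rfl
    rw [hN, Matrix.det_transpose]
    have := hu.map eQ.symm
    rwa [← heQ, AlgEquiv.symm_apply_apply] at this
  let S : Algebra.SubmersivePresentation R Q ι ι :=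
    { toPreSubmersivePresentation := Pre
      jacobian_isUnit := hjac }
  have : Algebra.IsStandardSmoothOfRelativeDimension 0 R Q :=
    S.isStandardSmoothOfRelativeDimension (by simp [Algebra.Presentation.dimension])
  have : Algebra.Etale R Q := inferInstance
  exact Algebra.Etale.of_equiv eQ

section DVec

variable {σ : Type} [Fintype σ] {K : Type u} [CommRing K]

/-- The derivative along the vector `c` at the point `p`. -/
noncomputable def dvec (p : MvPolynomial σ R →+* K) (c : σ → K) (F : MvPolynomial σ R) : K :=
  ∑ j, c j * p (pderiv j F)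

variable (p : MvPolynomial σ R →+* K) (c : σ → K)

@[simp] theorem dvec_zero : dvec p c 0 = 0 := by simp [dvec]

@[simp] theorem dvec_C (r : R) : dvec p c (C r) = 0 := by simp [dvec]

@[simp] theorem dvec_one : dvec p c 1 = 0 := by simp [dvec]

@[simp] theorem dvec_X (i : σ) : dvec p c (X i) = c i := by
  classical
  simp [dvec, pderiv_X, Pi.single_apply, apply_ite p]

theorem dvec_add (F G : MvPolynomial σ R) : dvec p c (F + G) = dvec p c F + dvec p c G := by
  simp [dvec, mul_add, Finset.sum_add_distrib]

theorem dvec_sub (F G : MvPolynomial σ R) : dvec p c (F - G) = dvec p c F - dvec p c G := by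
  simp [dvec, mul_sub, Finset.sum_sub_distrib]

theorem dvec_mul (F G : MvPolynomial σ R) :
    dvec p c (F * G) = p F * dvec p c G + p G * dvec p c F := by
  simp only [dvec, pderiv_mul, map_add, map_mul, Finset.mul_sum, ← Finset.sum_add_distrib]
  refine Finset.sum_congr rfl fun j _ => ?_
  ring

theorem dvec_sum {α : Type*} (s : Finset α) (F : α → MvPolynomial σ R) :
    dvec p c (∑ a ∈ s, F a) = ∑ a ∈ s, dvec p c (F a) := by
  simp only [dvec, map_sum, Finset.mul_sum]
  exact Finset.sum_comm

theorem dvec_sq (F : MvPolynomial σ R) : dvec p c (F ^ 2) = 2 * p F * dvec p c F := by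
  rw [sq, dvec_mul]; ring

/-- A Jacobian determinant is nonzero at a point at which no vector kills all equations. -/
theorem det_ne_zero_of_dvec {K : Type u} [Field K] [DecidableEq σ] (p : MvPolynomial σ R →+* K)
    (v : σ → MvPolynomial σ R)
    (h : ∀ c : σ → K, (∀ i, dvec p c (v i) = 0) → c = 0) :
    p (Matrix.of fun i j => pderiv j (v i)).det ≠ 0 := by
  rw [RingHom.map_det]
  intro h0
  obtain ⟨c, hc, hc0⟩ := Matrix.exists_mulVec_eq_zero_iff.2 h0
  refine hc (h c fun i => ?_)
  refine Eq.trans ?_ (congrFun hc0 i)
  simp [dvec, Matrix.mulVec, dotProduct, RingHom.mapMatrix_apply, mul_comm]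

end DVec

end Groth.PlaneCurve.NodeNormal
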