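import Groth.Agent.PlaneCurve.NodeNormal.Basic

/-!
# Square systems of equations with the Jacobian inverted
-/

universe u

open MvPolynomial

namespace Groth.PlaneCurve.NodeNormal

variable {B : Type u} [CommRing B] {σ : Type} (v : σ → MvPolynomial σ B) (L : MvPolynomial σ B)

/-- The equations of a system with `L` inverted. -/
noncomputable def sysRel : σ ⊕ Unit → MvPolynomial (σ ⊕ Unit) B :=
  Sum.elim (fun i => rename Sum.inl (v i)) fun _ => X (Sum.inr ()) * rename Sum.inl L - 1

/-- The algebra of a system with `L` inverted. -/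
abbrev Sys : Type u := MvPolynomial (σ ⊕ Unit) B ⧸ Ideal.span (Set.range (sysRel v L))

theorem etale_of_system [Fintype σ] [DecidableEq σ] {A : Type u} [CommRing A] [Algebra B A]
    (π : MvPolynomial (σ ⊕ Unit) B →ₐ[B] A) (hπ : Function.Surjective π)
    (hker : RingHom.ker π = Ideal.span (Set.range (sysRel v L)))
    (hL : (Matrix.of fun i j => pderiv j (v i)).det ∣ L) : Algebra.Etale B A := by
  classical
  refine etale_of_square π hπ _ hker ?_
  have hinv : IsUnit (π (rename Sum.inl L)) := by
    refine IsUnit.of_mul_eq_one_right (a := π (X (Sum.inr ()))) ?_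
    have : π (sysRel v L (Sum.inr ())) = 0 := by
      rw [← RingHom.mem_ker, hker]
      exact Ideal.subset_span ⟨_, rfl⟩
    rwa [sysRel, Sum.elim_inr, map_sub, map_one, map_mul, sub_eq_zero] at this
  have hdet : (Matrix.of fun i j => pderiv j (sysRel v L i)).det =
      rename Sum.inl (Matrix.of fun i j => pderiv j (v i)).det * rename Sum.inl L := by
    have h : (Matrix.of fun i j => pderiv j (sysRel v L i)) = Matrix.fromBlocks
        ((rename Sum.inl).mapMatrix (Matrix.of fun i j => pderiv j (v i))) 0
        (Matrix.of fun _ j => pderiv (Sum.inl j) (X (Sum.inr ()) * rename Sum.inl L - 1))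
        (Matrix.of fun _ _ => rename Sum.inl L) := by
      refine Matrix.ext fun i j => ?_
      rcases i with i | ⟨⟩ <;> rcases j with j | ⟨⟩
      · exact pderiv_rename Sum.inl_injective _ _
      · refine pderiv_eq_zero_of_notMem_vars fun hmem => ?_
        have := vars_rename Sum.inl (v i) hmem
        simp at this
      · rfl
      · have h0 : pderiv (Sum.inr ()) (rename (Sum.inl : σ → σ ⊕ Unit) L) = 0 := by
          refine pderiv_eq_zero_of_notMem_vars fun hmem => ?_
          have := vars_rename Sum.inl L hmem
          simp at this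
        simp [sysRel, h0]
    rw [h, Matrix.det_fromBlocks_zero₁₂, AlgHom.map_det, Matrix.det_unique (Matrix.of fun (_ _ : Unit) => rename Sum.inl L)]
    rfl
  rw [hdet, map_mul]
  refine IsUnit.mul (isUnit_of_dvd_unit (map_dvd π ?_) hinv) hinv
  exact map_dvd (rename Sum.inl) hL

theorem etale_sys [Fintype σ] [DecidableEq σ]
    (hL : (Matrix.of fun i j => pderiv j (v i)).det ∣ L) : Algebra.Etale B (Sys v L) :=
  etale_of_system v L (Ideal.Quotient.mkₐ B _) Ideal.Quotient.mk_surjective (Ideal.Quotient.mkₐ_ker B _) hL

end Groth.PlaneCurve.NodeNormal
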