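import Groth.Agent.PlaneCurve.NodeNormal.SplitEq
import Groth.Agent.PlaneCurve.NodeNormal.System

/-!
# The chart on which the quadratic part splits
-/

universe u

open MvPolynomial Matrix

namespace Groth.PlaneCurve.NodeNormal

/-- The family `X₀ X₁ + a = 0`. -/
abbrev NodalRing {R : Type u} [CommRing R] (a : R) : Type u :=
  MvPolynomial (Fin 2) R ⧸ Ideal.span {(X 0 * X 1 + C a : MvPolynomial (Fin 2) R)}

theorem det_of_map {P Q : Type u} [CommRing P] [CommRing Q] {σ : Type} [Fintype σ] [DecidableEq σ]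
    (ω : P →+* Q) (M : Matrix σ σ P) (N : Matrix σ σ Q) (h : ∀ i j, N i j = ω (M i j)) :
    N.det = ω M.det := by
  rw [RingHom.map_det]
  exact congrArg Matrix.det (Matrix.ext h)

variable {R : Type u} [CommRing R] {m : ℕ} (a : R)
  (eqs : Vars2 m → MvPolynomial (Vars2 m) R) (L2 : MvPolynomial (Vars2 m) R)

/-- The constants of the chart equations. -/
noncomputable def chartConst : Vars2 m → NodalRing a :=
  Sum.elim (Sum.elim ![Ideal.Quotient.mk _ (X 0), Ideal.Quotient.mk _ (X 1)] 0) 0

/-- The chart equations over the nodal ring. -/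
noncomputable def chartV (i : Vars2 m) : MvPolynomial (Vars2 m) (NodalRing a) :=
  map (algebraMap R (NodalRing a)) (eqs i) - C (chartConst a i)

/-- The chart. -/
abbrev Chart : Type u := Sys (chartV a eqs) (map (algebraMap R (NodalRing a)) L2)

/-- The projection to the chart. -/
noncomputable def chartMk : MvPolynomial (Vars2 m ⊕ Unit) (NodalRing a) →+* Chart a eqs L2 :=
  Ideal.Quotient.mk _

theorem chartMk_rel (i : Vars2 m ⊕ Unit) :
    chartMk a eqs L2 (sysRel (chartV a eqs) (map (algebraMap R (NodalRing a)) L2) i) = 0 :=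
  Ideal.Quotient.eq_zero_iff_mem.2 (Ideal.subset_span ⟨i, rfl⟩)

/-- Polynomials as functions on the chart. -/
noncomputable def chartHom : MvPolynomial (Vars2 m) R →+* Chart a eqs L2 :=
  ((chartMk a eqs L2).comp
    (rename (R := NodalRing a) (Sum.inl : Vars2 m → Vars2 m ⊕ Unit)).toRingHom).comp
    (map (algebraMap R (NodalRing a)))

theorem chartHom_apply (F : MvPolynomial (Vars2 m) R) : chartHom a eqs L2 F =
    chartMk a eqs L2 (rename Sum.inl (map (algebraMap R (NodalRing a)) F)) := rfl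

theorem chartHom_eqs (i : Vars2 m) :
    chartHom a eqs L2 (eqs i) = algebraMap (NodalRing a) (Chart a eqs L2) (chartConst a i) := by
  have := chartMk_rel a eqs L2 (Sum.inl i)
  simp only [sysRel, Sum.elim_inl, chartV, map_sub, rename_C, sub_eq_zero] at this
  exact this

theorem chartHom_L : chartMk a eqs L2 (X (Sum.inr ())) * chartHom a eqs L2 L2 = 1 := by
  have := chartMk_rel a eqs L2 (Sum.inr ())
  simp only [sysRel, Sum.elim_inr, map_sub, map_mul, map_one, sub_eq_zero] at this
  exact this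

theorem chartHom_C (r : R) : chartHom a eqs L2 (C r) = algebraMap R (Chart a eqs L2) r := by
  simp only [chartHom_apply, map_C, rename_C]
  rfl

theorem etale_chart (hL : (Matrix.of fun i j => pderiv j (eqs i)).det ∣ L2) :
    Algebra.Etale (NodalRing a) (Chart a eqs L2) := by
  classical
  refine etale_sys _ _ ?_
  refine (det_of_map (σ := Vars2 m) (P := MvPolynomial (Vars2 m) R)
    (Q := MvPolynomial (Vars2 m) (NodalRing a)) (MvPolynomial.map (algebraMap R (NodalRing a)))
    (Matrix.of fun i j => pderiv j (eqs i)) _ fun i j => ?_) ▸ map_dvd _ hL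
  simp [chartV, pderiv_map]

section Point

variable {K : Type u} [Field K] (pR : R →+* K) (pη : MvPolynomial (Vars2 m) R →+* K)

theorem exists_chart_point (hC : ∀ r, pη (C r) = pR r) (ha : pR a = 0) (hz : ∀ i, pη (eqs i) = 0)
    (hL : pη L2 ≠ 0) : ∃ pX : Chart a eqs L2 →+* K, ∀ F, pX (chartHom a eqs L2 F) = pη F := by
  let pW : NodalRing a →+* K := Ideal.Quotient.lift _ (eval₂Hom pR 0) fun x hx => by
    obtain ⟨y, rfl⟩ := Ideal.mem_span_singleton'.1 hx
    simp [ha]
  let pX1 : MvPolynomial (Vars2 m ⊕ Unit) (NodalRing a) →+* K :=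
    eval₂Hom pW (Sum.elim (fun j => pη (X j)) fun _ => (pη L2)⁻¹)
  have hpX1 : ∀ F, pX1 (rename Sum.inl (map (algebraMap R (NodalRing a)) F)) = pη F := fun F => by
    induction F using MvPolynomial.induction_on with
    | C r =>
      simp only [pX1, map_C, rename_C, coe_eval₂Hom, eval₂_C, hC]
      exact eval₂Hom_C pR 0 r
    | add P Q hP hQ => simp only [map_add, hP, hQ]
    | mul_X P i hP => simp only [map_mul, hP]; simp [pX1]
  refine ⟨Ideal.Quotient.lift _ pX1 fun x hx => ?_, fun F => hpX1 F⟩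
  refine RingHom.mem_ker.1 ((Ideal.span_le (I := RingHom.ker pX1)).2 ?_ hx)
  rintro _ ⟨i | ⟨⟩, rfl⟩
  · show pX1 (rename Sum.inl (map (algebraMap R (NodalRing a)) (eqs i) - C (chartConst a i))) = 0
    rw [map_sub, map_sub, hpX1, rename_C, hz, zero_sub, neg_eq_zero]
    simp only [pX1, coe_eval₂Hom, eval₂_C]
    rcases i with (j | k) | j
    · fin_cases j
      · exact eval₂Hom_X' pR 0 0
      · exact eval₂Hom_X' pR 0 1
    · exact map_zero pW
    · exact map_zero pW
  · show pX1 (_ - _) = 0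
    rw [map_sub, map_mul, map_one, hpX1]
    simp [pX1, inv_mul_cancel₀ hL]

end Point

section Split

variable (f : Fin m → MvPolynomial (Vars m) R) (ξ : Vars m → R)
  (E qA qB qC : MvPolynomial (Vars m) R) (g : MvPolynomial (Vars m) R)
  (hG : E ^ 2 * (g - C a) - (qA * coord ξ 0 ^ 2 + qB * coord ξ 0 * coord ξ 1 + qC * coord ξ 1 ^ 2) ∈
    Ideal.span (Set.range f))

include hG in
theorem chartHom_g : chartHom a (splitEq f ξ E qA qB qC) L2 (old g) = 0 := by
  set η := chartHom a (splitEq f ξ E qA qB qC) L2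
  have he := chartHom_eqs a (splitEq f ξ E qA qB qC) L2
  have h1 := split_mul f ξ E qA qB qC η ((he (Sum.inr 0)).trans (map_zero _))
    ((he (Sum.inr 1)).trans (map_zero _)) (fun k => (he (Sum.inl (Sum.inr k))).trans (map_zero _)) _ hG
  rw [show η (splitU ξ) = algebraMap _ _ (chartConst a (Sum.inl (Sum.inl 0) : Vars2 m)) from
      he (Sum.inl (Sum.inl 0)),
    show η (splitV ξ qA qB) = algebraMap _ _ (chartConst a (Sum.inl (Sum.inl 1) : Vars2 m)) from
      he (Sum.inl (Sum.inl 1)),
    ← map_mul, map_sub, map_sub, show old (C a) = (C a : MvPolynomial (Vars2 m) R) from rename_C _ _,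
    chartHom_C] at h1
  have h2 : chartConst a (Sum.inl (Sum.inl 0) : Vars2 m) * chartConst a (Sum.inl (Sum.inl 1) : Vars2 m) =
      - algebraMap R (NodalRing a) a := by
    rw [eq_neg_iff_add_eq_zero]
    show Ideal.Quotient.mk _ (X 0) * Ideal.Quotient.mk _ (X 1) + Ideal.Quotient.mk _ (C a) = 0
    rw [← map_mul, ← map_add, Ideal.Quotient.eq_zero_iff_mem]
    exact Ideal.subset_span rfl
  rw [h2, map_neg, ← IsScalarTower.algebraMap_apply] at h1
  linear_combination h1.symm

variable {Q : Type u} [CommRing Q] (θ0 : MvPolynomial (Vars m) R →+* Q)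

include hG in
/-- The chart is étale over the family. -/
theorem etale_chart_fibre [Algebra Q (Chart a (splitEq f ξ E qA qB qC) L2)]
    (hθ : Function.Surjective θ0) (hθf : ∀ k, θ0 (f k) = 0) (hθg : θ0 g = 0)
    (hcomp : ∀ F, algebraMap Q (Chart a (splitEq f ξ E qA qB qC) L2) (θ0 F) =
      chartHom a (splitEq f ξ E qA qB qC) L2 (old F))
    (hL : (2 * old qA * rootVar + old qB) * old E ^ 2 ∣ L2) :
    Algebra.Etale Q (Chart a (splitEq f ξ E qA qB qC) L2) := by
  classical
  let eqs := splitEq f ξ E qA qB qC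
  let η := chartHom a (splitEq f ξ E qA qB qC) L2
  let θ : MvPolynomial (Vars2 m) R →+* MvPolynomial (Fin 2) Q :=
    eval₂Hom (C.comp (θ0.comp C)) (Sum.elim (fun j => C (θ0 (X j))) X)
  have hθold : ∀ F, θ (old F) = C (θ0 F) := fun F =>
    RingHom.congr_fun (f := θ.comp (old (R := R)).toRingHom) (g := C.comp θ0)
      (MvPolynomial.ringHom_ext (fun r => by simp [θ]) (fun j => by simp [θ])) F
  let vq : Fin 2 → MvPolynomial (Fin 2) Q :=
    ![θ (splitQuad qA qB qC), θ (invVar * old E ^ 2 - 1)]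
  have hX0 : θ rootVar = X 0 := by simp [θ]
  have hX1 : θ invVar = X 1 := by simp [θ]
  have hJq : (Matrix.of fun i j => pderiv j (vq i)).det =
      θ ((2 * old qA * rootVar + old qB) * old E ^ 2) := by
    have e0 : θ (splitQuad qA qB qC) = C (θ0 qA) * X 0 ^ 2 + C (θ0 qB) * X 0 + C (θ0 qC) := by
      simp only [splitQuad, map_add, map_mul, map_pow, hθold, hX0]
    have e1 : θ (invVar * old E ^ 2 - 1) = X 1 * C (θ0 E) ^ 2 - 1 := by
      simp only [map_sub, map_mul, map_pow, map_one, hθold, hX1]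
    rw [Matrix.det_fin_two]
    simp only [Matrix.of_apply, vq, Matrix.cons_val_zero, Matrix.cons_val_one, e0, e1,
      map_mul, map_add, map_pow, map_ofNat, hθold, hX0, map_sub, pderiv_mul, pderiv_C, pderiv_one,
      pderiv_pow, pderiv_X_self, pderiv_X_of_ne (show (0 : Fin 2) ≠ 1 by decide),
      pderiv_X_of_ne (show (1 : Fin 2) ≠ 0 by decide)]
    push_cast
    ring
  let inv : Chart a (splitEq f ξ E qA qB qC) L2 := chartMk a (splitEq f ξ E qA qB qC) L2 (X (Sum.inr ()))
  let π : MvPolynomial (Fin 2 ⊕ Unit) Q →ₐ[Q] (Chart a (splitEq f ξ E qA qB qC) L2) :=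
    aeval (Sum.elim (fun i => η (X (Sum.inr i))) fun _ => inv)
  let rn : MvPolynomial (Fin 2) Q →+* MvPolynomial (Fin 2 ⊕ Unit) Q :=
    (rename (R := Q) (Sum.inl : Fin 2 → Fin 2 ⊕ Unit)).toRingHom
  have hπC : ∀ q, π (C q) = algebraMap Q (Chart a (splitEq f ξ E qA qB qC) L2) q := fun q => aeval_C _ q
  have hπθ : ∀ F, π (rn (θ F)) = η F := fun F => by
    induction F using MvPolynomial.induction_on with
    | C r =>
      simp only [θ, rn, coe_eval₂Hom, eval₂_C, RingHom.comp_apply, AlgHom.toRingHom_eq_coe,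
        RingHom.coe_coe, rename_C]
      exact (hπC _).trans ((hcomp _).trans (congrArg η (rename_C _ _)))
    | add P T hP hT => simp only [map_add, hP, hT]
    | mul_X P j hP =>
      simp only [map_mul, hP]
      congr 1
      rcases j with j | i
      · simp only [θ, rn, coe_eval₂Hom, eval₂_X, Sum.elim_inl, AlgHom.toRingHom_eq_coe,
          RingHom.coe_coe, rename_C]
        exact (hπC _).trans ((hcomp _).trans (congrArg η (rename_X _ _)))
      · simp [π, rn, θ]
  let relq := sysRel vq (θ L2)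
  let mkq : MvPolynomial (Fin 2 ⊕ Unit) Q →+*
    MvPolynomial (Fin 2 ⊕ Unit) Q ⧸ Ideal.span (Set.range relq) := Ideal.Quotient.mk _
  have hrelq : ∀ i, mkq (relq i) = 0 := fun i =>
    Ideal.Quotient.eq_zero_iff_mem.2 (Ideal.subset_span ⟨i, rfl⟩)
  let θb := (mkq.comp rn).comp θ
  have hθb : ∀ F, θ0 F = 0 → θb (old F) = 0 := fun F hF => by simp [θb, hθold, hF]
  let Ψ0 : MvPolynomial (Fin 2) R →+* _ :=
    eval₂Hom (θb.comp C) ![θb (splitU ξ), θb (splitV ξ qA qB)]
  have hΨ0 : Ψ0 (X 0 * X 1 + C a) = 0 := by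
    simp only [Ψ0, map_add, map_mul, coe_eval₂Hom, eval₂_X, eval₂_C, Matrix.cons_val_zero,
      Matrix.cons_val_one, RingHom.comp_apply]
    rw [split_mul f ξ E qA qB qC θb (hrelq (Sum.inl 0)) (hrelq (Sum.inl 1))
      (fun k => hθb _ (hθf k)) _ hG, map_sub, map_sub, hθb _ hθg,
      show old (C a) = (C a : MvPolynomial (Vars2 m) R) from rename_C _ _]
    ring
  let ΨW : NodalRing a →+* _ := Ideal.Quotient.lift _ Ψ0 fun x hx => by
    obtain ⟨y, rfl⟩ := Ideal.mem_span_singleton'.1 hx
    rw [map_mul, hΨ0, mul_zero]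
  let Ψ1 : MvPolynomial (Vars2 m ⊕ Unit) (NodalRing a) →+* _ :=
    eval₂Hom ΨW (Sum.elim (fun j => θb (X j)) fun _ => mkq (X (Sum.inr ())))
  have hΨ1 : ∀ F, Ψ1 (rename Sum.inl (map (algebraMap R (NodalRing a)) F)) = θb F := fun F => by
    induction F using MvPolynomial.induction_on with
    | C r =>
      simp only [Ψ1, map_C, rename_C, coe_eval₂Hom, eval₂_C]
      exact eval₂Hom_C (θb.comp C) _ r
    | add P T hP hT => simp only [map_add, hP, hT]
    | mul_X P i hP => simp only [map_mul, hP]; simp [Ψ1]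
  have hΨmem : Ideal.span (Set.range (sysRel (chartV a eqs)
      (map (algebraMap R (NodalRing a)) L2))) ≤ RingHom.ker Ψ1 := by
    rw [Ideal.span_le]
    rintro _ ⟨i | ⟨⟩, rfl⟩
    · show Ψ1 (rename Sum.inl (map (algebraMap R (NodalRing a)) (eqs i) - C (chartConst a i))) = 0
      rw [map_sub, map_sub, hΨ1, rename_C, sub_eq_zero]
      simp only [Ψ1, coe_eval₂Hom, eval₂_C]
      rcases i with (j | k) | j
      · fin_cases j
        · exact (eval₂Hom_X' (θb.comp C) ![θb (splitU ξ), θb (splitV ξ qA qB)] 0).symm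
        · exact (eval₂Hom_X' (θb.comp C) ![θb (splitU ξ), θb (splitV ξ qA qB)] 1).symm
      · exact (hθb _ (hθf k)).trans (map_zero ΨW).symm
      · refine Eq.trans ?_ (map_zero ΨW).symm
        fin_cases j
        · exact hrelq (Sum.inl 0)
        · exact hrelq (Sum.inl 1)
    · show Ψ1 (_ - _) = 0
      rw [map_sub, map_mul, map_one, hΨ1,
        show Ψ1 (X (Sum.inr ())) = mkq (X (Sum.inr ())) by simp [Ψ1]]
      have := hrelq (Sum.inr ())
      simp only [relq, sysRel, Sum.elim_inr, map_sub, map_mul, map_one] at this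
      exact this
  let Ψ : (Chart a (splitEq f ξ E qA qB qC) L2) →+* _ := Ideal.Quotient.lift _ Ψ1 fun x hx => RingHom.mem_ker.1 (hΨmem hx)
  have hΨη : ∀ F, Ψ (η F) = θb F := hΨ1
  refine etale_of_system vq (θ L2) π (fun y => ?_) (ker_eq_span π _ (fun i => ?_) Ψ ?_) ?_
  · show y ∈ π.range
    obtain ⟨P, rfl⟩ := Ideal.Quotient.mk_surjective y
    have hη : ∀ F, η F ∈ π.range := fun F => ⟨_, hπθ F⟩
    have hW : ∀ wv, algebraMap (NodalRing a) (Chart a (splitEq f ξ E qA qB qC) L2) wv ∈ π.range := fun wv => by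
      obtain ⟨P, rfl⟩ := Ideal.Quotient.mk_surjective wv
      induction P using MvPolynomial.induction_on with
      | C r =>
        exact (IsScalarTower.algebraMap_apply R (NodalRing a) (Chart a (splitEq f ξ E qA qB qC) L2) r) ▸ chartHom_C a eqs L2 r ▸ hη (C r)
      | add P T hP hT => rw [map_add, map_add]; exact add_mem hP hT
      | mul_X P i hP =>
        rw [map_mul, map_mul]
        refine mul_mem hP ?_
        fin_cases i
        · exact chartHom_eqs a eqs L2 (Sum.inl (Sum.inl 0)) ▸ hη (eqs (Sum.inl (Sum.inl 0)))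
        · exact chartHom_eqs a eqs L2 (Sum.inl (Sum.inl 1)) ▸ hη (eqs (Sum.inl (Sum.inl 1)))
    induction P using MvPolynomial.induction_on with
    | C wv => exact hW wv
    | add P T hP hT => rw [map_add]; exact add_mem hP hT
    | mul_X P i hP =>
      rw [map_mul]
      refine mul_mem hP ?_
      rcases i with j | ⟨⟩
      · have := hη (X j)
        simp only [η, chartHom_apply, map_X, rename_X] at this
        exact this
      · exact ⟨X (Sum.inr ()), aeval_X _ _⟩
  · rcases i with i | ⟨⟩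
    · show π (rn (vq i)) = 0
      fin_cases i
      · exact (hπθ _).trans ((chartHom_eqs a eqs L2 (Sum.inr 0)).trans (map_zero _))
      · exact (hπθ _).trans ((chartHom_eqs a eqs L2 (Sum.inr 1)).trans (map_zero _))
    · show π (X (Sum.inr ()) * rn (θ L2) - 1) = 0
      rw [map_sub, map_mul, map_one, hπθ, show π (X (Sum.inr ())) = inv from aeval_X _ _,
        chartHom_L, sub_self]
  · intro y
    refine RingHom.congr_fun (f := Ψ.comp π.toRingHom) (g := mkq)
      (MvPolynomial.ringHom_ext (fun q => ?_) (fun j => ?_)) y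
    · obtain ⟨F, rfl⟩ := hθ q
      show Ψ (π (C (θ0 F))) = _
      rw [hπC, hcomp, hΨη]
      simp [θb, hθold, rn]
    · rcases j with i | ⟨⟩
      · show Ψ (π (X (Sum.inl i))) = _
        rw [show π (X (Sum.inl i)) = η (X (Sum.inr i)) from aeval_X _ _, hΨη]
        simp [θb, θ, rn]
      · show Ψ (π (X (Sum.inr ()))) = _
        rw [show π (X (Sum.inr ())) = inv from aeval_X _ _]
        show Ψ1 (X (Sum.inr ())) = _
        simp [Ψ1]
  · rw [hJq]
    exact map_dvd θ hL

end Split

end Groth.PlaneCurve.NodeNormal
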