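import Groth.Agent.PlaneCurve.NodeNormal.Basic

/-!
# Critical equations of a function on a complete intersection of relative dimension two
-/

universe u

open MvPolynomial Matrix

namespace Groth.PlaneCurve.NodeNormal

/-- Two coordinates and `m` further variables. -/
abbrev Vars (m : ℕ) := Fin 2 ⊕ Fin m

variable {R : Type u} [CommRing R] {m : ℕ} (f : Fin m → MvPolynomial (Vars m) R)
  (g : MvPolynomial (Vars m) R)

/-- The partials in the dependent variables. -/
noncomputable def depMat : Matrix (Fin m) (Fin m) (MvPolynomial (Vars m) R) :=
  Matrix.of fun k l => pderiv (Sum.inr l) (f k)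

/-- The partials in the coordinates. -/
noncomputable def coordMat : Matrix (Fin m) (Fin 2) (MvPolynomial (Vars m) R) :=
  Matrix.of fun k i => pderiv (Sum.inl i) (f k)

/-- The determinant making the coordinates étale. -/
noncomputable def disc : MvPolynomial (Vars m) R := (depMat f).det

/-- The tangent frame of the surface. -/
noncomputable def frame : Matrix (Vars m) (Vars m) (MvPolynomial (Vars m) R) :=
  fromBlocks (disc f • 1) 0 (-((depMat f).adjugate * coordMat f)) 1

/-- The derivation along the `i`-th coordinate, scaled by `disc`. -/
noncomputable def del (i : Fin 2) (F : MvPolynomial (Vars m) R) : MvPolynomial (Vars m) R :=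
  dvec (RingHom.id _) (fun j => frame f j (Sum.inl i)) F

/-- The critical equations. -/
noncomputable def crit : Vars m → MvPolynomial (Vars m) R :=
  Sum.elim (fun i => del f i g) f

/-- The Jacobian matrix of the critical equations. -/
noncomputable def critMat : Matrix (Vars m) (Vars m) (MvPolynomial (Vars m) R) :=
  Matrix.of fun r j => pderiv j (crit f g r)

theorem del_eq (i : Fin 2) (F : MvPolynomial (Vars m) R) :
    del f i F = disc f * pderiv (Sum.inl i) F -
      ∑ k, ((depMat f).adjugate * coordMat f) k i * pderiv (Sum.inr k) F := by
  rw [del, dvec, Fintype.sum_sum_type]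
  simp [frame, Matrix.smul_apply, Matrix.one_apply, sub_eq_add_neg]

@[simp] theorem del_inl (i j : Fin 2) :
    del f i (X (Sum.inl j) : MvPolynomial (Vars m) R) = if j = i then disc f else 0 := by
  rw [del, dvec_X]
  simp [frame, Matrix.smul_apply, Matrix.one_apply]

@[simp] theorem del_equation (i : Fin 2) (k : Fin m) : del f i (f k) = 0 := by
  rw [del_eq, sub_eq_zero]
  have h : ((depMat f) * ((depMat f).adjugate * coordMat f)) k i = (disc f • coordMat f) k i := by
    rw [← Matrix.mul_assoc, Matrix.mul_adjugate, Matrix.smul_mul, Matrix.one_mul]; rfl
  rw [Matrix.mul_apply, Matrix.smul_apply, smul_eq_mul] at h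
  refine h.symm.trans (Finset.sum_congr rfl fun l _ => ?_)
  exact mul_comm _ _

/-- The Jacobian of the critical equations and the Hessian on the surface. -/
theorem det_critMat_mul :
    (critMat f g).det * disc f ^ 2 =
      (Matrix.of fun i j => del f j (del f i g)).det * disc f := by
  have h : critMat f g * frame f = fromBlocks (Matrix.of fun i j => del f j (del f i g))
      (Matrix.of fun i l => pderiv (Sum.inr l) (del f i g)) 0 (depMat f) := by
    ext r j : 2
    rw [Matrix.mul_apply]
    rcases j with j | l
    · rw [show ∑ x, critMat f g r x * frame f x (Sum.inl j) = del f j (crit f g r) from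
        Finset.sum_congr rfl fun x _ => mul_comm _ _]
      rcases r with i | k <;> simp [crit]
    · rw [Fintype.sum_sum_type]
      rcases r with i | k <;> simp [critMat, crit, frame, Matrix.one_apply, depMat]
  have := congrArg Matrix.det h
  rw [Matrix.det_mul, Matrix.det_fromBlocks_zero₂₁, frame, Matrix.det_fromBlocks_zero₁₂,
    Matrix.det_smul, Matrix.det_one, Matrix.det_one, Fintype.card_fin, mul_one, mul_one] at this
  exact this

section Map

variable {R' : Type u} [CommRing R'] (χ : R →+* R')

theorem depMat_map : depMat (fun k => map χ (f k)) = (depMat f).map (map χ) := by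
  ext k l : 2; simp [depMat, pderiv_map]

theorem disc_map : disc (fun k => map χ (f k)) = map χ (disc f) := by
  rw [disc, depMat_map, disc, RingHom.map_det]; rfl

theorem del_map (i : Fin 2) (F : MvPolynomial (Vars m) R) :
    del (fun k => map χ (f k)) i (map χ F) = map χ (del f i F) := by
  have hc : coordMat (fun k => map χ (f k)) = (coordMat f).map (map χ) := by
    ext k l : 2; simp [coordMat, pderiv_map]
  have hadj : ((depMat f).map (map χ)).adjugate = (depMat f).adjugate.map (map χ) :=
    ((map χ).map_adjugate (depMat f)).symm
  rw [del_eq, del_eq, depMat_map, hc, hadj, disc_map, map_sub, map_mul, map_sum, pderiv_map]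
  refine congrArg _ (Finset.sum_congr rfl fun k _ => ?_)
  rw [map_mul, pderiv_map, ← Matrix.map_mul]
  rfl

theorem crit_map (r : Vars m) :
    crit (fun k => map χ (f k)) (map χ g) r = map χ (crit f g r) := by
  rcases r with i | k
  · exact del_map f χ i g
  · rfl

theorem critMat_map :
    critMat (fun k => map χ (f k)) (map χ g) = (critMat f g).map (map χ) := by
  ext r j : 2; simp [critMat, crit_map, pderiv_map]

end Map

end Groth.PlaneCurve.NodeNormal
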