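import Groth.Agent.PlaneCurve.NodeNormal.Chart

/-!
# The étale chart at a nondegenerate critical point
-/

universe u

open MvPolynomial Matrix TensorProduct

namespace Groth.PlaneCurve.NodeNormal

variable {R S : Type u} [CommRing R] [CommRing S] [Algebra R S] {m : ℕ}
  (φ : MvPolynomial (Vars m) R →ₐ[R] S) (hφ : Function.Surjective φ)
  (g0 : MvPolynomial (Vars m) R) (f : Fin m → MvPolynomial (Vars m) R)
  (hg0 : φ g0 = 0) (hf : ∀ k, φ (f k) = 0)
  (hh : MvPolynomial (Vars m) R)
  (hhI : ∀ x, φ x = 0 → hh * x ∈ Ideal.span (insert g0 (Set.range f)))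
  {K : Type u} [Field K] [IsAlgClosed K] (pS : S →+* K) (hu : pS (φ hh) ≠ 0)
  (hD : pS (φ (disc f)) ≠ 0) (hcrit : ∀ r, pS (φ (crit f g0 r)) = 0)
  (hhess : pS (φ (critMat f g0).det) ≠ 0)

include hD hcrit hhess in
/-- The critical section, after an étale extension of the base. -/
theorem exists_section :
    ∃ (R' : Type u) (_ : CommRing R') (_ : Algebra R R') (ξ : Vars m → R') (pR : R' →+* K),
      Algebra.Etale R R' ∧ (∀ r, eval ξ (map (algebraMap R R') (crit f g0 r)) = 0) ∧
      IsUnit (eval ξ (map (algebraMap R R') (disc f))) ∧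
      ∀ F, pR (eval ξ (map (algebraMap R R') F)) = pS (φ F) := by
  classical
  let L0 := (critMat f g0).det * disc f
  let R' := Sys (crit f g0) L0
  let mkR : MvPolynomial (Vars m ⊕ Unit) R →+* R' := Ideal.Quotient.mk _
  let ξ : Vars m → R' := fun v => mkR (X (Sum.inl v))
  have heval : ∀ F, eval ξ (map (algebraMap R R') F) = mkR (rename Sum.inl F) := fun F => by
    induction F using MvPolynomial.induction_on with
    | C r => simp only [map_C, eval_C, rename_C]; rfl
    | add P Q hP hQ => simp only [map_add, hP, hQ]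
    | mul_X P i hP => simp only [map_mul, hP]; simp [ξ]
  have hrelR : ∀ i, mkR (sysRel (crit f g0) L0 i) = 0 := fun i =>
    Ideal.Quotient.eq_zero_iff_mem.2 (Ideal.subset_span ⟨i, rfl⟩)
  have hunit : IsUnit (eval ξ (map (algebraMap R R') L0)) := by
    refine IsUnit.of_mul_eq_one_right (a := mkR (X (Sum.inr ()))) ?_
    have := hrelR (Sum.inr ())
    simp only [sysRel, Sum.elim_inr, map_sub, map_mul, map_one, sub_eq_zero] at this
    rwa [heval]
  let p' : MvPolynomial (Vars m) R →+* K := pS.comp φ.toRingHom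
  let ev0 : MvPolynomial (Vars m ⊕ Unit) R →+* K :=
    eval₂Hom (pS.comp (algebraMap R S)) (Sum.elim (fun v => pS (φ (X v))) fun _ => (p' L0)⁻¹)
  have hev0 : ∀ F, ev0 (rename Sum.inl F) = p' F := fun F => by
    induction F using MvPolynomial.induction_on with
    | C r => simp [ev0, p', ← MvPolynomial.algebraMap_eq]
    | add P Q hP hQ => simp only [map_add, hP, hQ]
    | mul_X P i hP => simp only [map_mul, hP]; simp [ev0, p']
  have hL0 : p' L0 ≠ 0 := by
    show pS (φ (_ * _)) ≠ 0
    rw [map_mul, map_mul]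
    exact mul_ne_zero hhess hD
  let pR : R' →+* K := Ideal.Quotient.lift _ ev0 fun x hx => by
    refine RingHom.mem_ker.1 ((Ideal.span_le (I := RingHom.ker ev0)).2 ?_ hx)
    rintro _ ⟨r | ⟨⟩, rfl⟩
    · exact (hev0 _).trans (hcrit r)
    · show ev0 (_ - _) = 0
      rw [map_sub, map_mul, map_one, hev0,
        show ev0 (X (Sum.inr ())) = (p' L0)⁻¹ by simp [ev0], inv_mul_cancel₀ hL0, sub_self]
  refine ⟨R', inferInstance, inferInstance, ξ, pR, etale_sys _ _ (Dvd.intro (disc f) rfl),
    fun r => (heval _).trans (hrelR (Sum.inl r)), ?_, fun F => ?_⟩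
  · simp only [L0, map_mul] at hunit
    exact isUnit_of_mul_isUnit_right hunit
  · rw [heval]
    exact hev0 F

include hφ hg0 hf hhI hu hD hcrit hhess in
/-- Étale locally, the family is the standard nodal family. -/
theorem exists_chart :
    ∃ (R' X' : CommRingCat.{u}) (a : R') (gV : R →+* R') (gU : S →+* X')
      (e : NodalRing a →+* X') (pX : X' →+* K),
      gV.Etale ∧ gU.Etale ∧ e.Etale ∧
      (∀ r, gU (algebraMap R S r) = e (algebraMap R' (NodalRing a) (gV r))) ∧ pX.comp gU = pS := by
  classical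
  obtain ⟨R', _, _, ξ, pR, hR', hcritξ, hDξ, hpRξ⟩ := exists_section φ g0 f pS hD hcrit hhess
  let am : MvPolynomial (Vars m) R →+* MvPolynomial (Vars m) R' := map (algebraMap R R')
  let f1 : Fin m → MvPolynomial (Vars m) R' := fun k => am (f k)
  let g1 : MvPolynomial (Vars m) R' := am g0
  have hf1 : ∀ k, eval ξ (f1 k) = 0 := fun k => hcritξ (Sum.inr k)
  obtain ⟨E, qA, qB, qC, hE, hG, hdiscQ⟩ := exists_quadratic f1 g1 ξ hf1
    (fun i => by rw [del_map]; exact hcritξ (Sum.inl i)) (by rw [disc_map]; exact hDξ)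
  let a : R' := eval ξ g1
  let eqs := splitEq f1 ξ E qA qB qC
  let lin : MvPolynomial (Vars2 m) R' := (2 * old qA * rootVar + old qB) * old E ^ 2
  let L2 : MvPolynomial (Vars2 m) R' :=
    (Matrix.of fun i j => pderiv j (eqs i)).det * old (am hh) * lin
  let X' := Chart a eqs L2
  let η := chartHom a eqs L2
  have hX : Algebra.Etale (NodalRing a) X' :=
    etale_chart a eqs L2 (Dvd.intro (old (am hh) * lin) (mul_assoc _ _ _).symm)
  have hηC : ∀ r, η (C r) = algebraMap R' X' r := chartHom_C a eqs L2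
  -- the map from `S`
  let τ : MvPolynomial (Vars m) R →ₐ[R] X' := aeval fun j => η (old (X j))
  have hτ : ∀ F, τ F = η (old (am F)) := fun F => by
    induction F using MvPolynomial.induction_on with
    | C r =>
      simp only [am, map_C, old, rename_C, hηC, τ, aeval_C, ← IsScalarTower.algebraMap_apply]
    | add P Q hP hQ => simp only [map_add, hP, hQ]
    | mul_X P i hP => simp only [map_mul, hP]; simp [τ, am]
  have hhhX : IsUnit (τ hh) := by
    rw [hτ]
    refine IsUnit.of_mul_eq_one_right (a := chartMk a eqs L2 (X (Sum.inr ())) *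
      η ((Matrix.of fun i j => pderiv j (eqs i)).det * lin)) ?_
    rw [← chartHom_L a eqs L2, mul_assoc, ← map_mul]
    exact congrArg (fun z => _ * η z) (mul_right_comm _ _ _)
  have hτg0 : τ g0 = 0 := (hτ _).trans (chartHom_g a L2 f1 ξ E qA qB qC g1 hG)
  have hτker : ∀ x, φ x = 0 → τ x = 0 := by
    intro x hx
    have hle : Ideal.span (insert g0 (Set.range f)) ≤ RingHom.ker τ := by
      rw [Ideal.span_le]
      rintro _ (rfl | ⟨k, rfl⟩)
      · exact hτg0
      · exact (hτ _).trans ((chartHom_eqs a eqs L2 (Sum.inl (Sum.inr k))).trans (map_zero _))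
    have : τ (hh * x) = 0 := hle (hhI x hx)
    rwa [map_mul, hhhX.mul_right_eq_zero] at this
  let τS : S →ₐ[R] X' := (Ideal.Quotient.liftₐ (RingHom.ker φ) τ hτker).comp
    (Ideal.quotientKerAlgEquivOfSurjective hφ).symm.toAlgHom
  have hτS : ∀ F, τS (φ F) = τ F := fun F => by
    show Ideal.Quotient.liftₐ _ τ hτker ((Ideal.quotientKerAlgEquivOfSurjective hφ).symm (φ F)) = τ F
    rw [show φ F = Ideal.quotientKerAlgEquivOfSurjective hφ (Ideal.Quotient.mk _ F) from rfl,
      AlgEquiv.symm_apply_apply]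
    rfl
  -- the étale structure over `S`
  let τQ : S ⊗[R] R' →ₐ[R] X' :=
    Algebra.TensorProduct.lift τS (IsScalarTower.toAlgHom R R' X') fun _ _ => Commute.all _ _
  let : Algebra S X' := τS.toRingHom.toAlgebra
  let : Algebra (S ⊗[R] R') X' := τQ.toRingHom.toAlgebra
  have : IsScalarTower S (S ⊗[R] R') X' :=
    IsScalarTower.of_algebraMap_eq (R := S) (S := S ⊗[R] R') (A := X') fun s => by
      show τS s = τQ (s ⊗ₜ 1)
      simp [τQ]
  have hQX : Algebra.Etale (S ⊗[R] R') X' := by
    let incR : R' →+* S ⊗[R] R' := (Algebra.TensorProduct.includeRight (R := R) (A := S) (B := R')).toRingHom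
    let θ0 : MvPolynomial (Vars m) R' →+* S ⊗[R] R' := eval₂Hom incR fun j => φ (X j) ⊗ₜ[R] (1 : R')
    have hθ0 : ∀ F, θ0 (am F) = φ F ⊗ₜ[R] (1 : R') := fun F => by
      induction F using MvPolynomial.induction_on with
      | C r =>
        simp only [θ0, am, map_C, coe_eval₂Hom, eval₂_C]
        rw [← MvPolynomial.algebraMap_eq, AlgHom.commutes]
        exact ((Algebra.TensorProduct.includeRight (R := R) (A := S) (B := R')).commutes r).trans
          (Algebra.TensorProduct.algebraMap_apply r)
      | add P Q hP hQ => rw [map_add, map_add, map_add, hP, hQ, TensorProduct.add_tmul]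
      | mul_X P i hP => simp only [map_mul, hP]; simp [θ0, am]
    refine etale_chart_fibre a L2 f1 ξ E qA qB qC g1 hG θ0 ?_ ?_ ?_ ?_ (Dvd.intro_left _ rfl)
    · intro q
      induction q using TensorProduct.induction_on with
      | zero => exact ⟨0, map_zero _⟩
      | add x y hx hy =>
        obtain ⟨x, rfl⟩ := hx
        obtain ⟨y, rfl⟩ := hy
        exact ⟨x + y, map_add _ _ _⟩
      | tmul s r =>
        obtain ⟨F, rfl⟩ := hφ s
        refine ⟨am F * C r, ?_⟩
        rw [map_mul, hθ0]
        simp [θ0, incR]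
    · exact fun k => (hθ0 _).trans (by rw [hf, TensorProduct.zero_tmul])
    · exact (hθ0 _).trans (by rw [hg0, TensorProduct.zero_tmul])
    · intro F
      show τQ (θ0 F) = η (old F)
      induction F using MvPolynomial.induction_on with
      | C r => simp [θ0, incR, τQ, old, hηC]
      | add P Q hP hQ => simp only [map_add, hP, hQ]
      | mul_X P i hP =>
        simp only [map_mul, hP]
        congr 1
        simp [θ0, τQ, hτS, τ]
  have hgU : Algebra.Etale S X' := Algebra.Etale.comp S (S ⊗[R] R') X'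
  -- the point
  let pt : Vars m → K := fun v => pS (φ (X v))
  have hqv : ∀ F : MvPolynomial (Vars m) R', eval₂Hom pR pt F = pR (eval ξ F) := fun F => by
    induction F using MvPolynomial.induction_on with
    | C r => simp
    | add P Q hP hQ => simp only [map_add, hP, hQ]
    | mul_X P i hP =>
      simp only [map_mul, hP]
      have := hpRξ (X i)
      simp only [map_X, eval_X] at this
      simp [this, pt]
  have hEK : pR (eval ξ E) ≠ 0 := by
    rw [hE, disc_map, hpRξ]
    exact hD
  have hdK : pR (eval ξ (4 * qA * qC - qB ^ 2)) ≠ 0 := by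
    rw [hdiscQ, map_mul, critMat_map, disc_map, show ((critMat f g0).map (map (algebraMap R R'))).det =
      am (critMat f g0).det from (RingHom.map_det _ _).symm, map_mul, hpRξ, hpRξ]
    exact mul_ne_zero hhess hD
  obtain ⟨t, ht⟩ := exists_root_quadratic (a := pR (eval ξ qA)) (b := pR (eval ξ qB))
    (c := pR (eval ξ qC)) (by simpa only [map_sub, map_mul, map_pow, map_ofNat] using hdK)
  let ηK : MvPolynomial (Vars2 m) R' →+* K :=
    eval₂Hom pR (Sum.elim pt ![t, ((pR (eval ξ E)) ^ 2)⁻¹])
  have hηold : ∀ F, ηK (old F) = pR (eval ξ F) := fun F => by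
    rw [← hqv]
    simp only [ηK, old, coe_eval₂Hom, eval₂_rename]
    rfl
  have hcoordK : ∀ i, ηK (old (coord ξ i)) = 0 := fun i => by rw [hηold, eval_coord, map_zero]
  have hquadK : ηK (splitQuad qA qB qC) = 0 := by
    rw [splitQuad]
    simp only [map_add, map_mul, map_pow, hηold]
    simpa [ηK] using ht
  have hinvK : ηK (invVar * old E ^ 2 - 1) = 0 := by
    simp only [map_sub, map_mul, map_pow, map_one, hηold]
    simp [ηK, inv_mul_cancel₀ (pow_ne_zero 2 hEK)]
  have hzK : ∀ i, ηK (eqs i) = 0 := by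
    rintro ((i | k) | i)
    · fin_cases i
      · show ηK (splitU ξ) = 0
        simp [splitU, hcoordK]
      · show ηK (splitV ξ qA qB) = 0
        simp [splitV, hcoordK]
    · exact (hηold _).trans (by rw [hf1, map_zero])
    · fin_cases i
      · exact hquadK
      · exact hinvK
  have hlinK : ηK lin ≠ 0 := by
    simp only [lin, map_mul, map_pow, hηold]
    refine mul_ne_zero (fun h0 => hdK ?_) (pow_ne_zero 2 hEK)
    simp only [splitQuad, map_add, map_mul, map_pow, hηold, map_sub, map_ofNat] at hquadK h0 ⊢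
    linear_combination 4 * pR (eval ξ qA) * hquadK -
      (2 * pR (eval ξ qA) * ηK rootVar + pR (eval ξ qB)) * h0
  have hL2K : ηK L2 ≠ 0 := by
    simp only [L2, map_mul]
    refine mul_ne_zero (mul_ne_zero ?_ ?_) hlinK
    · exact splitEq_det_ne_zero f1 ξ E qA qB qC ηK hzK hcoordK
        (by rw [hηold, disc_map, hpRξ]; exact hD) (by rwa [hηold]) (by rwa [hηold])
    · rw [hηold, hpRξ]
      exact hu
  have ha : pR a = 0 := (hpRξ g0).trans (by rw [hg0, map_zero])
  obtain ⟨pX, hpX⟩ := exists_chart_point a eqs L2 pR ηK (fun r => eval₂Hom_C _ _ r) ha hzK hL2K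
  refine ⟨CommRingCat.of R', CommRingCat.of X', a, algebraMap R R', τS.toRingHom,
    algebraMap (NodalRing a) X', pX, RingHom.etale_algebraMap.2 hR', RingHom.etale_algebraMap.2 hgU,
    RingHom.etale_algebraMap.2 hX, fun r => ?_, RingHom.ext fun s => ?_⟩
  · refine (τS.commutes r).trans ?_
    exact (IsScalarTower.algebraMap_apply R R' X' r).trans
      (IsScalarTower.algebraMap_apply R' (NodalRing a) X' _)
  · obtain ⟨F, rfl⟩ := hφ s
    show pX (τS (φ F)) = pS (φ F)
    rw [hτS, hτ, hpX, hηold, hpRξ]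

end Groth.PlaneCurve.NodeNormal
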