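import Groth.Agent.PlaneCurve.NodeNormal.Point
import Groth.Agent.PlaneCurve.NodeNormal.Split
import Groth.Agent.Curves1.Node.NodalOpen

/-!
# The normal form of a flat family at a node of a fibre, on affine charts
-/

universe u

open MvPolynomial IsLocalRing Groth.Curves1.Node

namespace Groth.PlaneCurve.NodeNormal

/-- Étale locally at a node of a fibre, a flat family is the standard nodal family. -/
theorem exists_normalForm {R S k A : Type u} [CommRing R] [CommRing S] [Algebra R S] [Field k]
    [CommRing A] [IsLocalRing A] [IsNoetherianRing A] [Algebra k A] {χ : R →+* k} {ρ : S →+* A}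
    [Module.Flat R S] [Algebra.FinitePresentation R S] (h : IsFibreLocal χ ρ)
    (hnode : IsNodeRing k A) :
    ∃ (R' X' : CommRingCat.{u}) (a : R') (gV : R →+* R') (gU : S →+* X')
      (e : NodalRing a →+* X'),
      gV.Etale ∧ gU.Etale ∧ e.Etale ∧
      (∀ r, gU (algebraMap R S r) = e (algebraMap R' (NodalRing a) (gV r))) ∧
      ∃ z : PrimeSpectrum X', z.asIdeal.comap gU = (maximalIdeal A).comap ρ := by
  classical
  obtain ⟨N, φ, hφ, hI⟩ := ‹Algebra.FinitePresentation R S›.out
  obtain ⟨n, g, hh, rfl, hg, hu, hhI⟩ := h.exists_equations φ hφ hI hnode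
  let K := AlgebraicClosure (ResidueField A)
  let ι : ResidueField A →+* K := algebraMap _ _
  let pS : S →+* K := (ι.comp (residue A)).comp ρ
  obtain ⟨hminor, hjoint⟩ := joint h φ hφ g hg hh hhI hu ι hnode
  have hgp : ∀ i, geomPt (ρ := ρ) φ ι (g i) = 0 := fun i => by
    rw [geomPt_apply, hg, map_zero, map_zero, map_zero]
  obtain ⟨m, e, g0, f, hrange, hD, hcrit, hhess⟩ :=
    exists_frame (geomPt (ρ := ρ) φ ι) g hgp hminor hjoint
  let φ' : MvPolynomial (Vars m) R →ₐ[R] S := φ.comp (rename e)
  have hback : ∀ F, rename e (rename e.symm F) = F := fun F : MvPolynomial (Fin (n + 1)) R => by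
    rw [rename_rename, Equiv.self_comp_symm, rename_id_apply]
  have hφ' : Function.Surjective φ' := fun s => by
    obtain ⟨F, rfl⟩ := hφ s
    exact ⟨rename e.symm F, congrArg φ (hback F)⟩
  have hzero : ∀ x ∈ insert g0 (Set.range f), φ' x = 0 := by
    rw [hrange]
    rintro _ ⟨i, rfl⟩
    exact (congrArg φ (hback _)).trans (hg i)
  have hhI' : ∀ x, φ' x = 0 → rename e.symm hh * x ∈ Ideal.span (insert g0 (Set.range f)) := by
    intro x hx
    have h1 := Ideal.mem_map_of_mem (rename e.symm) (hhI (rename e x) hx)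
    rw [Ideal.map_span, ← Set.range_comp, map_mul, rename_rename, Equiv.symm_comp_self,
      rename_id_apply] at h1
    rw [hrange]
    exact h1
  obtain ⟨R', X', a, gV, gU, e', pX, hgV, hgU, he, hcomm, hpt⟩ := exists_chart φ' hφ' g0 f
    (hzero _ (Set.mem_insert _ _)) (fun k => hzero _ (Set.mem_insert_of_mem _ ⟨k, rfl⟩))
    (rename e.symm hh) hhI' pS
    (by show ι (residue A (ρ (φ (rename e (rename e.symm hh))))) ≠ 0
        rw [hback]
        exact ((hu.map (residue A)).map ι).ne_zero)
    hD hcrit hhess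
  refine ⟨R', X', a, gV, gU, e', hgV, hgU, he, hcomm, ⟨RingHom.ker pX, RingHom.ker_isPrime pX⟩, ?_⟩
  ext s
  rw [Ideal.mem_comap, RingHom.mem_ker, Ideal.mem_comap, show pX (gU s) = pS s from
    RingHom.congr_fun hpt s, ← residue_eq_zero_iff]
  exact map_eq_zero_iff ι ι.injective

end Groth.PlaneCurve.NodeNormal
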