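import Groth.Agent.PlaneCurve.NodeNormal.Chart

/-!
# The standard nodal family is a base change of the universal one
-/

universe u

open CategoryTheory MvPolynomial

namespace Groth.PlaneCurve.NodeNormal

theorem ulift_int_hom_ext {T : Type u} [CommRing T] (φ ψ : ULift.{u} ℤ →+* T) : φ = ψ := by
  refine RingHom.ext fun n => ?_
  rw [show n = ((n.down : ℤ) : ULift.{u} ℤ) from rfl, map_intCast, map_intCast]

/-- Integers lifted to the universe of `T`. -/
noncomputable def intHom (T : Type u) [CommRing T] : ULift.{u} ℤ →+* T :=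
  (Int.castRingHom T).comp (ULift.ringEquiv (R := ℤ)).toRingHom

/-- The relation of the universal family. -/
noncomputable abbrev univRel : MvPolynomial (Fin 3) (ULift.{u} ℤ) := X 0 * X 1 - X 2

variable {R : Type u} [CommRing R] (a : R)

/-- The parameter. -/
noncomputable def paramHom : MvPolynomial (Fin 1) (ULift.{u} ℤ) →+* R :=
  eval₂Hom (intHom R) fun _ => -a

/-- The map from the universal family. -/
noncomputable def univHom :
    MvPolynomial (Fin 3) (ULift.{u} ℤ) ⧸ Ideal.span {univRel.{u}} →+* NodalRing a :=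
  Ideal.Quotient.lift _ (eval₂Hom (intHom _) ![Ideal.Quotient.mk _ (X 0), Ideal.Quotient.mk _ (X 1),
    -algebraMap R (NodalRing a) a]) fun x hx => by
    obtain ⟨y, rfl⟩ := Ideal.mem_span_singleton'.1 hx
    rw [map_mul]
    refine mul_eq_zero_of_right _ ?_
    simp only [univRel, map_sub, map_mul, coe_eval₂Hom, eval₂_X, Matrix.cons_val_zero,
      Matrix.cons_val_one, Matrix.cons_val, sub_neg_eq_add]
    show Ideal.Quotient.mk _ (X 0) * Ideal.Quotient.mk _ (X 1) + Ideal.Quotient.mk _ (C a) = 0
    rw [← map_mul, ← map_add, Ideal.Quotient.eq_zero_iff_mem]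
    exact Ideal.subset_span rfl

theorem isPushout_nodal :
    IsPushout (CommRingCat.ofHom ((Ideal.Quotient.mk (Ideal.span {univRel.{u}})).comp
        (aeval (R := ULift.{u} ℤ) (fun _ : Fin 1 => (X 2 : MvPolynomial (Fin 3) (ULift.{u} ℤ)))).toRingHom))
      (CommRingCat.ofHom (paramHom a))
      (CommRingCat.ofHom (R := MvPolynomial (Fin 3) (ULift.{u} ℤ) ⧸ Ideal.span {univRel.{u}})
        (S := NodalRing a) (univHom a))
      (CommRingCat.ofHom (algebraMap R (NodalRing a))) := by
  let χ := (Ideal.Quotient.mk (Ideal.span {univRel.{u}})).comp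
    (aeval (R := ULift.{u} ℤ) (fun _ : Fin 1 => (X 2 : MvPolynomial (Fin 3) (ULift.{u} ℤ)))).toRingHom
  have hw : (univHom a).comp χ = (algebraMap R (NodalRing a)).comp (paramHom a) := by
    refine MvPolynomial.ringHom_ext' (ulift_int_hom_ext _ _) fun i => ?_
    fin_cases i
    simp [univHom, paramHom, χ]
  refine IsPushout.of_isColimit' ⟨CommRingCat.hom_ext hw⟩ (Limits.PushoutCocone.IsColimit.mk _
    (fun s => CommRingCat.ofHom (Ideal.Quotient.lift _ (eval₂Hom s.inr.hom
      ![s.inl.hom (Ideal.Quotient.mk _ (X 0)), s.inl.hom (Ideal.Quotient.mk _ (X 1))]) ?_))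
    (fun s => ?_) (fun s => ?_) fun s m h1 h2 => ?_)
  · intro x hx
    obtain ⟨y, rfl⟩ := Ideal.mem_span_singleton'.1 hx
    rw [map_mul]
    refine mul_eq_zero_of_right _ ?_
    have hs : s.inl.hom (Ideal.Quotient.mk _ (X 2)) = - s.inr.hom a := by
      have := RingHom.congr_fun (congrArg CommRingCat.Hom.hom s.condition) (X 0)
      simpa [χ, paramHom] using this
    simp only [map_add, map_mul, coe_eval₂Hom, eval₂_X, eval₂_C, Matrix.cons_val_zero,
      Matrix.cons_val_one]
    rw [← map_mul, ← map_mul, show Ideal.Quotient.mk (Ideal.span {univRel.{u}}) (X 0 * X 1) =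
      Ideal.Quotient.mk _ (X 2) from Ideal.Quotient.eq.2 (Ideal.subset_span rfl), hs, neg_add_cancel]
  · refine CommRingCat.hom_ext (Ideal.Quotient.ringHom_ext
      (MvPolynomial.ringHom_ext' (ulift_int_hom_ext _ _) fun i => ?_))
    fin_cases i
    · simp [univHom]
    · simp [univHom]
    · have := RingHom.congr_fun (congrArg CommRingCat.Hom.hom s.condition) (X 0)
      simp only [χ, paramHom, CommRingCat.hom_comp, RingHom.comp_apply, CommRingCat.hom_ofHom,
        coe_eval₂Hom, eval₂_X, AlgHom.toRingHom_eq_coe, RingHom.coe_coe, aeval_X, map_neg] at this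
      simp [univHom, show algebraMap R (NodalRing a) a = Ideal.Quotient.mk _ (C a) from rfl, this]
  · refine CommRingCat.hom_ext (RingHom.ext fun r => ?_)
    simp [show algebraMap R (NodalRing a) r = Ideal.Quotient.mk _ (C r) from rfl]
  · refine CommRingCat.hom_ext (Ideal.Quotient.ringHom_ext
      (MvPolynomial.ringHom_ext (fun r => ?_) fun i => ?_))
    · have := RingHom.congr_fun (congrArg CommRingCat.Hom.hom h2) r
      simp only [CommRingCat.hom_comp, RingHom.comp_apply, CommRingCat.hom_ofHom] at this
      simp only [RingHom.comp_apply, CommRingCat.hom_ofHom]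
      rw [Ideal.Quotient.lift_mk, coe_eval₂Hom, eval₂_C]
      exact this
    · fin_cases i
      · have := RingHom.congr_fun (congrArg CommRingCat.Hom.hom h1) (Ideal.Quotient.mk _ (X 0))
        simpa [univHom] using this
      · have := RingHom.congr_fun (congrArg CommRingCat.Hom.hom h1) (Ideal.Quotient.mk _ (X 1))
        simpa [univHom] using this

end Groth.PlaneCurve.NodeNormal
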