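import Groth.Agent.PlaneCurve.NodeNormal.Jacobian

/-!
# A function on a relative surface near a nondegenerate critical section
-/

universe u

open MvPolynomial Matrix

namespace Groth.PlaneCurve.NodeNormal

variable {R : Type u} [CommRing R] {m : ℕ} (f : Fin m → MvPolynomial (Vars m) R)
  (g : MvPolynomial (Vars m) R)

@[simp] theorem del_C (i : Fin 2) (r : R) : del f i (C r) = 0 := dvec_C _ _ r

theorem del_add (i : Fin 2) (F G : MvPolynomial (Vars m) R) :
    del f i (F + G) = del f i F + del f i G := dvec_add _ _ F G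

theorem del_sub (i : Fin 2) (F G : MvPolynomial (Vars m) R) :
    del f i (F - G) = del f i F - del f i G := dvec_sub _ _ F G

theorem del_mul (i : Fin 2) (F G : MvPolynomial (Vars m) R) :
    del f i (F * G) = F * del f i G + G * del f i F := dvec_mul _ _ F G

theorem del_sum (i : Fin 2) {α : Type*} (s : Finset α) (F : α → MvPolynomial (Vars m) R) :
    del f i (∑ a ∈ s, F a) = ∑ a ∈ s, del f i (F a) := dvec_sum _ _ s F

theorem del_mem (i : Fin 2) {F : MvPolynomial (Vars m) R} (hF : F ∈ Ideal.span (Set.range f)) :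
    del f i F ∈ Ideal.span (Set.range f) := by
  obtain ⟨c, rfl⟩ := Ideal.mem_span_range_iff_exists_fun.1 hF
  rw [del_sum]
  refine sum_mem fun k _ => ?_
  rw [del_mul, del_equation, mul_zero, zero_add]
  exact Ideal.mul_mem_right _ _ (Ideal.subset_span ⟨k, rfl⟩)

theorem exists_linear_expansion {σ : Type} [Fintype σ] (ξ : σ → R) {F : MvPolynomial σ R}
    (hF : eval ξ F = 0) :
    ∃ G : σ → MvPolynomial σ R, F = ∑ j, G j * (X j - C (ξ j)) ∧
      ∀ j, eval ξ (G j) = eval ξ (pderiv j F) := by
  classical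
  have hmem : ∀ P : MvPolynomial σ R,
      P - C (eval ξ P) ∈ Ideal.span (Set.range fun j => X j - C (ξ j)) := by
    intro P
    induction P using MvPolynomial.induction_on with
    | C r => simp
    | add P Q hP hQ =>
      have : P + Q - C (eval ξ (P + Q)) = (P - C (eval ξ P)) + (Q - C (eval ξ Q)) := by
        simp only [map_add]; ring
      rw [this]; exact add_mem hP hQ
    | mul_X P i hP =>
      have : P * X i - C (eval ξ (P * X i)) =
          (P - C (eval ξ P)) * X i + C (eval ξ P) * (X i - C (ξ i)) := by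
        simp only [map_mul, eval_X]; ring
      rw [this]
      exact add_mem (Ideal.mul_mem_right _ _ hP) (Ideal.mul_mem_left _ _ (Ideal.subset_span ⟨i, rfl⟩))
  have := hmem F
  rw [hF, map_zero, sub_zero] at this
  obtain ⟨G, hG⟩ := Ideal.mem_span_range_iff_exists_fun.1 this
  refine ⟨G, hG.symm, fun j => ?_⟩
  rw [← hG, map_sum, map_sum]
  simp [pderiv_mul, pderiv_X, Pi.single_apply, apply_ite (eval ξ)]

variable (ξ : Vars m → R)

/-- The coordinates centred at `ξ`. -/
noncomputable def coord (i : Fin 2) : MvPolynomial (Vars m) R := X (Sum.inl i) - C (ξ (Sum.inl i))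

theorem del_coord (i k : Fin 2) :
    del f i (coord ξ k) = if k = i then disc f else 0 := by
  rw [coord, del_sub, del_inl, del_C, sub_zero]

theorem eval_coord (k : Fin 2) : eval ξ (coord ξ k) = 0 := by simp [coord]

variable (hf : ∀ k, eval ξ (f k) = 0)

include hf in
theorem eval_mem {F : MvPolynomial (Vars m) R} (hF : F ∈ Ideal.span (Set.range f)) :
    eval ξ F = 0 := by
  refine (RingHom.mem_ker).1 ((Ideal.span_le.2 ?_ : Ideal.span (Set.range f) ≤ RingHom.ker (eval ξ)) hF)
  rintro _ ⟨k, rfl⟩
  exact hf k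

include hf in
/-- Functions vanishing at `ξ` are combinations of the coordinates on the surface. -/
theorem exists_reduce : ∃ E, eval ξ E = eval ξ (disc f) ∧
    ∀ F : MvPolynomial (Vars m) R, eval ξ F = 0 → ∃ q : Fin 2 → MvPolynomial (Vars m) R,
      (∀ i, eval ξ (q i) = eval ξ (del f i F)) ∧
      E * F - ∑ i, q i * coord ξ i ∈ Ideal.span (Set.range f) := by
  classical
  choose Gf hGf hGev using fun k => exists_linear_expansion ξ (hf k)
  let Gd : Matrix (Fin m) (Fin m) (MvPolynomial (Vars m) R) :=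
    Matrix.of fun k l => Gf k (Sum.inr l)
  let Gc : Matrix (Fin m) (Fin 2) (MvPolynomial (Vars m) R) :=
    Matrix.of fun k i => Gf k (Sum.inl i)
  have hd : Gd.map (eval ξ) = (depMat f).map (eval ξ) := by
    ext k l; exact hGev k _
  have hc : Gc.map (eval ξ) = (coordMat f).map (eval ξ) := by
    ext k l; exact hGev k _
  have hdet : ∀ M : Matrix (Fin m) (Fin m) (MvPolynomial (Vars m) R),
      eval ξ M.det = (M.map (eval ξ)).det := fun M => RingHom.map_det _ M
  have hadj : ∀ M : Matrix (Fin m) (Fin m) (MvPolynomial (Vars m) R),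
      M.adjugate.map (eval ξ) = (M.map (eval ξ)).adjugate := fun M => (eval ξ).map_adjugate M
  refine ⟨Gd.det, by rw [hdet, hd, disc, hdet], fun F hF => ?_⟩
  obtain ⟨G, hG, hGe⟩ := exists_linear_expansion ξ hF
  refine ⟨fun i => Gd.det * G (Sum.inl i) - ∑ l, (Gd.adjugate * Gc) l i * G (Sum.inr l),
    fun i => ?_, ?_⟩
  · have hK : ((Gd.adjugate * Gc).map (eval ξ)) = ((depMat f).adjugate * coordMat f).map (eval ξ) := by
      rw [Matrix.map_mul, Matrix.map_mul, hadj, hadj, hd, hc]
    rw [del_eq, map_sub, map_sub, map_mul, map_mul, map_sum, map_sum, hGe,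
      show eval ξ Gd.det = eval ξ (disc f) by rw [hdet, hd, disc, hdet]]
    refine congrArg _ (Finset.sum_congr rfl fun l _ => ?_)
    rw [map_mul, map_mul, hGe]
    exact congrArg (· * _) (congrFun (congrFun hK l) i)
  · let y : Fin m → MvPolynomial (Vars m) R := fun l => X (Sum.inr l) - C (ξ (Sum.inr l))
    have hfk : f = fun k => (Gc *ᵥ coord ξ) k + (Gd *ᵥ y) k := by
      funext k
      rw [hGf k, Fintype.sum_sum_type]
      rfl
    have hy : ∀ l, Gd.det * y l = (Gd.adjugate *ᵥ f) l - ((Gd.adjugate * Gc) *ᵥ coord ξ) l := by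
      intro l
      have h1 : Gd.adjugate *ᵥ f =
          (Gd.adjugate * Gc) *ᵥ coord ξ + (Gd.det • (1 : Matrix (Fin m) (Fin m) _)) *ᵥ y := by
        conv_lhs => rw [hfk]
        rw [← Matrix.adjugate_mul, ← Matrix.mulVec_mulVec, ← Matrix.mulVec_mulVec, ← Matrix.mulVec_add]
        rfl
      rw [h1, Pi.add_apply, add_sub_cancel_left, Matrix.smul_mulVec, Matrix.one_mulVec,
        Pi.smul_apply, smul_eq_mul]
    have key : Gd.det * F - ∑ i, (Gd.det * G (Sum.inl i) -
        ∑ l, (Gd.adjugate * Gc) l i * G (Sum.inr l)) * coord ξ i =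
        ∑ l, G (Sum.inr l) * (Gd.adjugate *ᵥ f) l := by
      have hF' : F = ∑ i, G (Sum.inl i) * coord ξ i + ∑ l, G (Sum.inr l) * y l :=
        hG.trans (Fintype.sum_sum_type _)
      conv_lhs => rw [hF']
      simp only [sub_mul, Finset.sum_sub_distrib, mul_add, Finset.mul_sum]
      have : ∀ l, Gd.det * (G (Sum.inr l) * y l) =
          G (Sum.inr l) * (Gd.adjugate *ᵥ f) l -
            ∑ i, (Gd.adjugate * Gc) l i * G (Sum.inr l) * coord ξ i := by
        intro l
        rw [mul_left_comm, hy, mul_sub]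
        refine congrArg _ ?_
        rw [Matrix.mulVec, dotProduct, Finset.mul_sum]
        exact Finset.sum_congr rfl fun i _ => by ring
      simp only [this, Finset.sum_sub_distrib, Finset.sum_mul]
      rw [Finset.sum_comm (γ := Fin m)]
      simp only [mul_assoc]
      ring
    rw [key]
    refine sum_mem fun l _ => Ideal.mul_mem_left _ _ ?_
    rw [Matrix.mulVec, dotProduct]
    exact sum_mem fun k _ => Ideal.mul_mem_left _ _ (Ideal.subset_span ⟨k, rfl⟩)

include hf in
/-- The quadratic form of `g` at a critical section. -/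
theorem exists_quadratic (hcrit : ∀ i, eval ξ (del f i g) = 0) (hD : IsUnit (eval ξ (disc f))) :
    ∃ E A B C' : MvPolynomial (Vars m) R, eval ξ E = eval ξ (disc f) ∧
      E ^ 2 * (g - C (eval ξ g)) -
          (A * coord ξ 0 ^ 2 + B * coord ξ 0 * coord ξ 1 + C' * coord ξ 1 ^ 2) ∈
        Ideal.span (Set.range f) ∧
      eval ξ (4 * A * C' - B ^ 2) = eval ξ ((critMat f g).det * disc f) := by
  obtain ⟨E, hE, hred⟩ := exists_reduce f ξ hf
  set F0 := g - C (eval ξ g) with hF0def
  have hF0 : eval ξ F0 = 0 := by simp [F0]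
  have hdF0 : ∀ i, del f i F0 = del f i g := fun i => by rw [hF0def, del_sub, del_C, sub_zero]
  obtain ⟨q, hq, hqmem⟩ := hred F0 hF0
  have hq0 : ∀ i, eval ξ (q i) = 0 := fun i => by rw [hq, hdF0, hcrit]
  choose qq hqq hqqmem using fun i => hred (q i) (hq0 i)
  refine ⟨E, qq 0 0, qq 0 1 + qq 1 0, qq 1 1, hE, ?_, ?_⟩
  · have h0 := Ideal.mul_mem_left _ E hqmem
    have h1 := add_mem (Ideal.mul_mem_right (coord ξ 0) _ (hqqmem 0))
      (Ideal.mul_mem_right (coord ξ 1) _ (hqqmem 1))
    convert add_mem h0 h1 using 1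
    simp only [Fin.sum_univ_two]
    ring
  · have key : ∀ i j, eval ξ (del f j (del f i g)) = eval ξ (qq i j) + eval ξ (qq j i) := by
      intro i j
      have h0 := eval_mem f ξ hf (del_mem f j (del_mem f i hqmem))
      simp only [Fin.sum_univ_two, del_sub, del_add, del_mul, del_coord, map_sub, map_add, map_mul,
        eval_coord, hF0, hdF0, hcrit, hq0, zero_mul, mul_zero, add_zero, zero_add,
        apply_ite (del f j), apply_ite (eval ξ), map_zero] at h0
      rw [hqq, hqq]
      refine hD.mul_left_cancel ?_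
      rw [← hE] at h0 ⊢
      fin_cases i <;> fin_cases j <;>
        simp [del, hcrit, ← hE] at h0 ⊢ <;> linear_combination h0
    have hH := congrArg (eval ξ) (det_critMat_mul f g)
    rw [Matrix.det_fin_two, map_mul, map_mul, map_pow] at hH
    simp only [Matrix.of_apply, map_sub, map_mul, key] at hH
    simp only [map_sub, map_mul, map_pow, map_add, map_ofNat]
    refine hD.mul_left_cancel ?_
    linear_combination hH.symm

end Groth.PlaneCurve.NodeNormal
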