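import Groth.Agent.PlaneCurve.NodeNormal.Jacobian
import Groth.Agent.Curves1.Node.NodeChart

/-!
# Adapted coordinates at a node
-/

universe u

open MvPolynomial IsLocalRing Groth.Curves1.Node Matrix

namespace Groth.PlaneCurve.NodeNormal

theorem dvec_map {R R' : Type u} [CommRing R] [CommRing R'] {σ : Type} [Fintype σ] {K : Type u}
    [CommRing K] (p : MvPolynomial σ R' →+* K) (χ : R →+* R') (c : σ → K) (F : MvPolynomial σ R) :
    dvec p c (map χ F) = dvec (p.comp (map χ)) c F := by
  simp [dvec, pderiv_map]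

theorem dvec_aeval_X {R : Type u} [CommRing R] {σ : Type} [Fintype σ] {K : Type u} [CommRing K]
    (p : MvPolynomial σ R →+* K) (c : σ → K) (j : σ) (Q : Polynomial R) :
    dvec p c (Polynomial.aeval (X j) Q) = c j * p (Polynomial.aeval (X j) Q.derivative) := by
  classical
  simp [dvec, Derivation.map_aeval, pderiv_X, Pi.single_apply, apply_ite p]

theorem vanish_of_mem_span {R : Type u} [CommRing R] {σ : Type} [Fintype σ] {K : Type u} [CommRing K]
    (p : MvPolynomial σ R →+* K) (c : σ → K) {s : Set (MvPolynomial σ R)}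
    (hs : ∀ x ∈ s, p x = 0) (hs' : ∀ x ∈ s, dvec p c x = 0) {x : MvPolynomial σ R}
    (hx : x ∈ Ideal.span s) : p x = 0 ∧ dvec p c x = 0 := by
  induction hx using Submodule.span_induction with
  | mem x hx => exact ⟨hs x hx, hs' x hx⟩
  | zero => simp
  | add x y _ _ hx hy => exact ⟨by rw [map_add, hx.1, hy.1, add_zero], by rw [dvec_add, hx.2, hy.2, add_zero]⟩
  | smul a x _ hx =>
    exact ⟨by rw [smul_eq_mul, map_mul, hx.1, mul_zero],
      by rw [smul_eq_mul, dvec_mul, hx.1, hx.2, mul_zero, zero_mul, add_zero]⟩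

theorem pow_mul_det_mem {R : Type u} [CommRing R] {m : ℕ} (f : Fin m → MvPolynomial (Vars m) R)
    {ι : Type} [Fintype ι] [DecidableEq ι] (hcard : m < Fintype.card ι)
    (G : ι → MvPolynomial (Vars m) R) (J : Ideal (MvPolynomial (Vars m) R))
    (hJ : ∀ r i, del f i (G r) ∈ J) (γ : ι → Vars m) :
    disc f ^ Fintype.card ι * (Matrix.of fun r c => pderiv (γ c) (G r)).det ∈ J := by
  classical
  rw [← Matrix.det_smul, ← Ideal.Quotient.eq_zero_iff_mem, RingHom.map_det]
  obtain ⟨emb⟩ := Function.Embedding.nonempty_of_card_le (α := Fin m) (β := ι)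
    (by rw [Fintype.card_fin]; exact hcard.le)
  let F : Fin m → ι → MvPolynomial (Vars m) R := fun k c => Sum.elim
    (fun i => ((depMat f).adjugate * coordMat f) k i) (fun l => if k = l then disc f else 0) (γ c)
  let N : ι → Fin m → MvPolynomial (Vars m) R := fun r k => pderiv (Sum.inr k) (G r)
  let π := Ideal.Quotient.mk J
  let N' : Matrix ι ι (MvPolynomial (Vars m) R ⧸ J) :=
    Matrix.of fun r => Function.extend emb (fun k => π (N r k)) 0
  let F' : Matrix ι ι (MvPolynomial (Vars m) R ⧸ J) :=
    Matrix.of (Function.extend emb (fun k c => π (F k c)) 0)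
  have hprod : π.mapMatrix (disc f • Matrix.of fun r c => pderiv (γ c) (G r)) = N' * F' := by
    ext r c
    rw [Matrix.mul_apply, ← Fintype.sum_of_injective emb emb.injective
      (fun k => π (N r k) * π (F k c)) (fun x => N' r x * F' x c)
      (fun x hx => by
        simp only [F', N', Matrix.of_apply]
        rw [Function.extend_apply' _ _ _ (by simpa using hx)]
        simp)
      (fun k => by simp [F', N', emb.injective.extend_apply])]
    simp only [RingHom.mapMatrix_apply, Matrix.map_apply, Matrix.smul_apply, Matrix.of_apply,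
      smul_eq_mul, ← map_mul, ← map_sum]
    rcases hc : γ c with i | l
    · have h : π (del f i (G r)) = 0 := Ideal.Quotient.eq_zero_iff_mem.2 (hJ r i)
      rw [del_eq, map_sub, sub_eq_zero] at h
      rw [h]
      refine congrArg π (Finset.sum_congr rfl fun k _ => ?_)
      simp [F, N, hc, mul_comm]
    · simp [F, N, hc, mul_comm]
  rw [hprod, Matrix.det_mul]
  obtain ⟨x, hx⟩ : ∃ x, x ∉ Set.range emb := by
    by_contra! hall
    have := Fintype.card_le_of_surjective emb hall
    rw [Fintype.card_fin] at this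
    omega
  rw [Matrix.det_eq_zero_of_row_eq_zero (A := F') x fun c => by
    simp [F', Function.extend_apply' _ _ _ (by simpa using hx)], mul_zero]

section Joint

variable {R S k A : Type u} [CommRing R] [CommRing S] [Algebra R S] [Field k]
  [CommRing A] [IsLocalRing A] [Algebra k A] {χ : R →+* k} {ρ : S →+* A}
  (h : IsFibreLocal χ ρ) {n : ℕ}
  (φ : MvPolynomial (Fin (n + 1)) R →ₐ[R] S) (hφ : Function.Surjective φ)
  (g : Fin n → MvPolynomial (Fin (n + 1)) R) (hg : ∀ i, φ (g i) = 0)
  (hh : MvPolynomial (Fin (n + 1)) R) (hhI : ∀ x, φ x = 0 → hh * x ∈ Ideal.span (Set.range g))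
  (hu : IsUnit (ρ (φ hh)))
  {K : Type u} [Field K] (ι : ResidueField A →+* K)

/-- The geometric point of affine space. -/
noncomputable def geomPt : MvPolynomial (Fin (n + 1)) R →+* K :=
  (ι.comp (residue A)).comp (ρ.comp φ.toRingHom)

theorem geomPt_apply (F : MvPolynomial (Fin (n + 1)) R) :
    geomPt (ρ := ρ) φ ι F = ι (residue A (ρ (φ F))) := rfl

include h hφ hg hhI hu in
/-- At a node, the differentials of the equations and of the minors have no common zero. -/
theorem joint [IsNoetherianRing A] (hnode : IsNodeRing k A) :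
    (∀ γ : Fin n → Fin (n + 1),
      geomPt (ρ := ρ) φ ι (Matrix.of fun i j => pderiv (γ j) (g i)).det = 0) ∧
    ∀ c : Fin (n + 1) → K, (∀ i, dvec (geomPt (ρ := ρ) φ ι) c (g i) = 0) →
      (∀ γ : Fin n → Fin (n + 1),
        dvec (geomPt (ρ := ρ) φ ι) c (Matrix.of fun i j => pderiv (γ j) (g i)).det = 0) → c = 0 := by
  classical
  obtain ⟨hsep, hM⟩ := (h.isNodeRing_iff φ hφ g hg hh hhI hu).1 hnode
  set p := geomPt (ρ := ρ) φ ι with hpdef
  let minor := fun γ : Fin n → Fin (n + 1) => (Matrix.of fun i j => pderiv (γ j) (g i)).det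
  have hminor : ∀ γ, p (minor γ) = 0 := fun γ => by
    have : ρ (φ (minor γ)) ∈ maximalIdeal A :=
      hM ▸ Ideal.mem_map_of_mem ρ (Ideal.mem_map_of_mem φ (Ideal.subset_span ⟨γ, rfl⟩))
    rw [hpdef, geomPt_apply, (residue_eq_zero_iff _).2 this, map_zero]
  refine ⟨hminor, fun c hcg hcM => funext fun j => ?_⟩
  let π := h.pres φ
  let pk : MvPolynomial (Fin (n + 1)) k →+* K := (ι.comp (residue A)).comp π.toRingHom
  have hpk : pk.comp (map χ) = p :=
    RingHom.ext fun F => congrArg (fun a => ι (residue A a)) (h.pres_map φ F)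
  let θ : ResidueField A := residue A (π (X j))
  let P := minpoly k θ
  have hθ : IsIntegral k θ := (Algebra.IsSeparable.isSeparable k θ).isIntegral
  have hres : ∀ Q : Polynomial k, pk (Polynomial.aeval (X j) Q) = ι (Polynomial.aeval θ Q) := fun Q => by
    show ι (residue A (π (Polynomial.aeval (X j) Q))) = _
    rw [← Polynomial.aeval_algHom_apply]
    exact congrArg ι (Polynomial.aeval_algHom_apply (IsScalarTower.toAlgHom k A (ResidueField A)) _ Q).symm
  let y : MvPolynomial (Fin (n + 1)) k := Polynomial.aeval (X j) P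
  have hy0 : pk y = 0 := by rw [hres, minpoly.aeval, map_zero]
  have hy : π y ∈ maximalIdeal A :=
    (residue_eq_zero_iff _).1 (ι.injective (hy0.trans (map_zero ι).symm))
  let Mk := Ideal.span (Set.range fun γ => map χ (minor γ))
  have hMk : Mk.map π = maximalIdeal A := by
    rw [← hM, Ideal.map_span, jacMinors, Ideal.map_span, Ideal.map_span, ← Set.range_comp,
      ← Set.range_comp, ← Set.range_comp]
    refine congrArg Ideal.span (congrArg Set.range (funext fun γ => ?_))
    exact h.pres_map φ _
  have key : ∀ w ∈ Mk.map π, ∃ b c', IsUnit (π b) ∧ c' ∈ Mk ∧ w * π b = π c' := by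
    intro w hw
    rw [Ideal.map] at hw
    induction hw using Submodule.span_induction with
    | mem v hv => obtain ⟨v, hv, rfl⟩ := hv; exact ⟨1, v, by simp, hv, by simp⟩
    | zero => exact ⟨1, 0, by simp, zero_mem _, by simp⟩
    | add v v' _ _ h1 h2 =>
      obtain ⟨b, c1, hb, hc1, he1⟩ := h1
      obtain ⟨b', c2, hb', hc2, he2⟩ := h2
      refine ⟨b * b', c1 * b' + c2 * b, by rw [map_mul]; exact hb.mul hb',
        add_mem (Ideal.mul_mem_right _ _ hc1) (Ideal.mul_mem_right _ _ hc2), ?_⟩
      simp only [map_add, map_mul, ← he1, ← he2]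
      ring
    | smul a v _ h1 =>
      obtain ⟨b, c1, hb, hc1, he1⟩ := h1
      obtain ⟨b', c2, hb', hc2⟩ := h.pres_frac φ hφ a
      refine ⟨b' * b, c2 * c1, by rw [map_mul]; exact hb'.mul hb, Ideal.mul_mem_left _ _ hc1, ?_⟩
      simp only [map_mul, smul_eq_mul, ← he1]
      rw [← show a * π b' = π c2 from hc2]
      ring
  obtain ⟨b, c', hb, hc', hbc⟩ := key _ (hMk.symm ▸ hy)
  have hc'2 := vanish_of_mem_span pk c (s := Set.range fun γ => map χ (minor γ))
    (by rintro _ ⟨γ, rfl⟩; exact (RingHom.congr_fun hpk _).trans (hminor γ))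
    (by rintro _ ⟨γ, rfl⟩; show dvec pk c (map χ (minor γ)) = 0; rw [dvec_map, hpk]; exact hcM γ) hc'
  let q := y * b - c'
  have hq : π q = 0 := by rw [map_sub, map_mul, hbc, sub_self]
  obtain ⟨s, hs, hmem⟩ := h.pres_ker φ hφ hq
  have hle : Ideal.span {hh} * RingHom.ker φ.toRingHom ≤ Ideal.span (Set.range g) :=
    Ideal.span_singleton_mul_le_iff.2 fun x hx => hhI x hx
  have h1 := Ideal.map_mono (f := map χ) hle
  rw [Ideal.map_mul, Ideal.map_span, Ideal.map_span, Set.image_singleton, ← Set.range_comp] at h1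
  have h2 := vanish_of_mem_span pk c (s := Set.range (map χ ∘ g))
    (by rintro _ ⟨i, rfl⟩
        refine (RingHom.congr_fun hpk _).trans ?_
        rw [hpdef, geomPt_apply, hg, map_zero, map_zero, map_zero])
    (by rintro _ ⟨i, rfl⟩; show dvec pk c (map χ (g i)) = 0; rw [dvec_map, hpk]; exact hcg i)
    (h1 (Ideal.mul_mem_mul (Ideal.mem_span_singleton_self _) hmem))
  have hqpt : pk q = 0 := by
    show ι (residue A (π q)) = 0
    rw [hq, map_zero, map_zero]
  have hu1 : ∀ F, IsUnit (π F) → pk F ≠ 0 := fun F hF => ((hF.map (residue A)).map ι).ne_zero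
  have hq' : dvec pk c q = 0 := by
    have h3 := h2.2
    rw [dvec_mul, dvec_mul, map_mul, hqpt, zero_mul, add_zero, mul_zero, zero_mul, add_zero,
      mul_eq_zero, mul_eq_zero] at h3
    rcases h3 with h3 | h3 | h3
    · exact absurd h3 (hu1 _ (by rw [show π (map χ hh) = _ from h.pres_map φ hh]; exact hu))
    · exact absurd h3 (hu1 _ (by rw [show π (map χ s) = _ from h.pres_map φ s]; exact hs))
    · exact h3
  rw [dvec_sub, dvec_mul, hy0, zero_mul, zero_add, hc'2.2, sub_zero, dvec_aeval_X, hres,
    mul_eq_zero, mul_eq_zero] at hq'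
  rcases hq' with h4 | h4 | h4
  · exact absurd h4 (hu1 b hb)
  · exact h4
  · exact absurd (ι.injective (h4.trans (map_zero ι).symm))
      ((Algebra.IsSeparable.isSeparable k θ).aeval_derivative_ne_zero (minpoly.aeval k θ))

end Joint

section Frame

variable {R K : Type u} [CommRing R] [Field K] {n : ℕ} (p : MvPolynomial (Fin (n + 1)) R →+* K)
  (g : Fin n → MvPolynomial (Fin (n + 1)) R)

/-- Adapted coordinates at a point at which the differentials of the equations and of the minors have
no common zero. -/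
theorem exists_frame (hg : ∀ i, p (g i) = 0)
    (hminor : ∀ γ : Fin n → Fin (n + 1), p (Matrix.of fun i j => pderiv (γ j) (g i)).det = 0)
    (hjoint : ∀ c : Fin (n + 1) → K, (∀ i, dvec p c (g i) = 0) →
      (∀ γ : Fin n → Fin (n + 1), dvec p c (Matrix.of fun i j => pderiv (γ j) (g i)).det = 0) → c = 0) :
    ∃ (m : ℕ) (e : Vars m ≃ Fin (n + 1)) (g0 : MvPolynomial (Vars m) R)
      (f : Fin m → MvPolynomial (Vars m) R),
      insert g0 (Set.range f) = Set.range (fun i => rename e.symm (g i)) ∧
      p (rename e (disc f)) ≠ 0 ∧ (∀ r, p (rename e (crit f g0 r)) = 0) ∧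
      p (rename e (critMat f g0).det) ≠ 0 := by
  classical
  let ι0 : R →+* K := p.comp C
  let pt : Fin (n + 1) → K := fun j => p (X j)
  let gK : Fin n → MvPolynomial (Fin (n + 1)) K := fun i => map ι0 (g i)
  have hp : ∀ F, eval pt (map ι0 F) = p F := fun F =>
    RingHom.congr_fun (f := (eval pt).comp (map ι0)) (g := p)
      (MvPolynomial.ringHom_ext (fun r => by simp [ι0]) (fun j => by simp [pt])) F
  have hdv : ∀ F l, dv pt (map ι0 F) l = p (pderiv l F) := fun F l => by
    rw [dv_apply, pderiv_map, hp]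
  have hdvec : ∀ (c : Fin (n + 1) → K) F, dvec p c F = ∑ l, c l * dv pt (map ι0 F) l := fun c F =>
    Finset.sum_congr rfl fun l _ => by rw [hdv]
  have hMK : jacMinors gK ≤ RingHom.ker (eval pt) := by
    rw [← map_jacMinors ι0 g, Ideal.map_le_iff_le_comap, jacMinors, Ideal.span_le]
    rintro _ ⟨γ, rfl⟩
    show eval pt (map ι0 _) = 0
    rw [hp]
    exact hminor γ
  obtain ⟨c, hc0, hc⟩ := exists_dependence pt gK hMK
  obtain ⟨i0, hi0⟩ := Function.ne_iff.1 hc0
  have hli : LinearIndependent K fun b : {i // i ≠ i0} => dv pt (gK b) := by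
    by_contra hdep
    have hsq := jacMinors_le_sq_of_dependent (fun i => (hp _).trans (hg i)) hc hi0 hdep
    obtain ⟨v, hv, hv0⟩ : ∃ v : Fin (n + 1) → K,
        (Matrix.of fun (i : Fin n) l => p (pderiv l (g i))) *ᵥ v = 0 ∧ v ≠ 0 := by
      by_contra! hall
      have := LinearMap.finrank_le_finrank_of_injective
        (f := Matrix.mulVecLin (Matrix.of fun (i : Fin n) l => p (pderiv l (g i))))
        (LinearMap.ker_eq_bot.1 (Submodule.eq_bot_iff _ |>.2 fun v hv => hall v hv))
      simp at this
    refine hv0 (hjoint v (fun i => ?_) fun γ => ?_)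
    · refine Eq.trans ?_ (congrFun hv i)
      simp [dvec, Matrix.mulVec, dotProduct, mul_comm]
    · have hm : map ι0 (Matrix.of fun i j => pderiv (γ j) (g i)).det ∈
          RingHom.ker (eval pt) ^ 2 := by
        refine hsq ?_
        rw [← map_jacMinors ι0 g]
        exact Ideal.mem_map_of_mem _ (Ideal.subset_span ⟨γ, rfl⟩)
      rw [hdvec, dv_eq_zero_of_mem_sq pt hm]
      simp
  obtain ⟨m, rfl⟩ : ∃ m, n = m + 1 := ⟨n - 1, by have := i0.2; omega⟩
  let fo : Fin m → MvPolynomial (Fin (m + 1 + 1)) R := fun k => g (i0.succAbove k)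
  let M : Matrix (Fin m) (Fin (m + 1 + 1)) K := Matrix.of fun k l => p (pderiv l (fo k))
  have hMli : LinearIndependent K M.row := by
    have := hli.comp (fun k => (⟨i0.succAbove k, Fin.succAbove_ne i0 k⟩ : {i // i ≠ i0}))
      fun a b hab => Fin.succAbove_right_injective (congrArg Subtype.val hab)
    convert this using 1
    funext k l
    exact (hdv _ l).symm
  have hrank : M.rank = m := by rw [hMli.rank_matrix, Fintype.card_fin]
  obtain ⟨bs, hb, hbspan, hbli⟩ := exists_linearIndependent K (Set.range M.col)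
  have : Fintype bs := hbli.setFinite.fintype
  have hcard : Fintype.card bs = m := by
    rw [← finrank_span_eq_card hbli, Subtype.range_coe, hbspan, ← Matrix.rank_eq_finrank_span_cols, hrank]
  let eb : Fin m ≃ bs := (Fintype.equivFinOfCardEq hcard).symm
  choose γ hγ using fun k => hb (eb k).2
  have hdet : (M.submatrix id γ).det ≠ 0 := by
    refine ((Matrix.isUnit_iff_isUnit_det _).mp ?_).ne_zero
    rw [← Matrix.linearIndependent_cols_iff_isUnit]
    have heq : (M.submatrix id γ).col = (fun i => (eb i : Fin m → K)) := funext hγ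
    rw [heq]
    exact hbli.comp eb eb.injective
  have hγinj : Function.Injective γ := fun a b hab =>
    eb.injective (Subtype.ext ((hγ a).symm.trans ((congrArg M.col hab).trans (hγ b))))
  have hcompl : Fintype.card {x // ¬ x ∈ Set.range γ} = 2 := by
    rw [Fintype.card_subtype_compl, Fintype.card_fin]
    have : Fintype.card {x // x ∈ Set.range γ} = m :=
      (Fintype.card_congr (Equiv.ofInjective γ hγinj).symm).trans (Fintype.card_fin m)
    omega
  let e : Vars m ≃ Fin (m + 1 + 1) := (Equiv.sumComm (Fin 2) (Fin m)).trans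
    (((Equiv.ofInjective γ hγinj).sumCongr (Fintype.equivFinOfCardEq hcompl).symm).trans
      (Equiv.sumCompl (· ∈ Set.range γ)))
  have he : ∀ k, e (Sum.inr k) = γ k := fun k => rfl
  let p' : MvPolynomial (Vars m) R →+* K := p.comp (rename e).toRingHom
  have hp' : ∀ F, p' (rename e.symm F) = p F := fun F => by
    show p (rename e (rename e.symm F)) = p F
    rw [rename_rename, Equiv.self_comp_symm, rename_id_apply]
  have hpd : ∀ F v, p' (pderiv v (rename e.symm F)) = p (pderiv (e v) F) := fun F v => by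
    conv_lhs => rw [← e.symm_apply_apply v, pderiv_rename e.symm.injective]
    rw [hp']
  let f : Fin m → MvPolynomial (Vars m) R := fun k => rename e.symm (fo k)
  let g0 : MvPolynomial (Vars m) R := rename e.symm (g i0)
  let G : Fin (m + 1) → MvPolynomial (Vars m) R := fun i => rename e.symm (g i)
  have hdisc : p' (disc f) ≠ 0 := by
    rw [disc, RingHom.map_det]
    refine ne_of_eq_of_ne (congrArg Matrix.det ?_) hdet
    ext k l
    simp [depMat, f, M, hpd, he]
  have hdel : ∀ i, p' (del f i g0) = 0 := by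
    intro i
    have hlin : ∀ F, p' (del f i (rename e.symm F)) =
        ∑ v, p' (frame f v (Sum.inl i)) * dv pt (map ι0 F) (e v) := fun F => by
      simp only [del, dvec, map_sum, map_mul, RingHom.id_apply, hpd, hdv]
    have hzero : ∑ k, c k * p' (del f i (rename e.symm (g k))) = 0 := by
      simp only [hlin, Finset.mul_sum]
      rw [Finset.sum_comm]
      refine Finset.sum_eq_zero fun v _ => ?_
      have := congrFun hc (e v)
      simp only [Finset.sum_apply, Pi.smul_apply, smul_eq_mul, Pi.zero_apply, gK] at this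
      simp only [mul_left_comm (c _), ← Finset.mul_sum, this, mul_zero]
    rw [Fin.sum_univ_succAbove _ i0, Finset.sum_eq_zero fun k _ => ?_, add_zero] at hzero
    · exact (mul_eq_zero.1 hzero).resolve_left hi0
    · rw [show rename e.symm (g (i0.succAbove k)) = f k from rfl, del_equation, map_zero, mul_zero]
  have hcrit : ∀ r, p' (crit f g0 r) = 0 := by
    rintro (i | k)
    · exact hdel i
    · exact (hp' _).trans (hg _)
  have hrange : insert g0 (Set.range f) = Set.range G := by
    ext x
    constructor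
    · rintro (rfl | ⟨k, rfl⟩)
      · exact ⟨i0, rfl⟩
      · exact ⟨_, rfl⟩
    · rintro ⟨i, rfl⟩
      rcases Fin.eq_self_or_eq_succAbove i0 i with rfl | ⟨k, rfl⟩
      · exact Or.inl rfl
      · exact Or.inr ⟨k, rfl⟩
  refine ⟨m, e, g0, f, hrange, hdisc, hcrit, det_ne_zero_of_dvec p' (crit f g0) fun v hv => ?_⟩
  let J := Ideal.span (Set.range (crit f g0))
  have hcv : ∀ F, dvec p (v ∘ e.symm) F = dvec p' v (rename e.symm F) := fun F => by
    simp only [dvec, hpd]
    refine (Equiv.sum_comp e _).symm.trans ?_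
    simp
  have hJ : ∀ r i, del f i (G r) ∈ J := fun r i => by
    rcases Fin.eq_self_or_eq_succAbove i0 r with rfl | ⟨k, rfl⟩
    · exact Ideal.subset_span ⟨Sum.inl i, rfl⟩
    · rw [show G (i0.succAbove k) = f k from rfl, del_equation]; exact zero_mem _
  have := hjoint (v ∘ e.symm) (fun r => ?_) fun γ' => ?_
  · funext x
    simpa using congrFun this (e x)
  · rw [hcv]
    rcases Fin.eq_self_or_eq_succAbove i0 r with rfl | ⟨k, rfl⟩
    · -- the combination with zero differential
      have h0 : ∑ k, c k * dvec p (v ∘ e.symm) (g k) = 0 := by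
        simp only [hdvec, Finset.mul_sum]
        rw [Finset.sum_comm]
        refine Finset.sum_eq_zero fun l _ => ?_
        have := congrFun hc l
        simp only [Finset.sum_apply, Pi.smul_apply, smul_eq_mul, Pi.zero_apply, gK] at this
        simp only [mul_left_comm (c _), ← Finset.mul_sum, this, mul_zero]
      rw [Fin.sum_univ_succAbove _ r, Finset.sum_eq_zero fun k _ => ?_, add_zero, hcv] at h0
      · exact (mul_eq_zero.1 h0).resolve_left hi0
      · rw [hcv, show rename e.symm (g (r.succAbove k)) = f k from rfl,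
          show dvec p' v (f k) = 0 from hv (Sum.inr k), mul_zero]
    · exact hv (Sum.inr k)
  · rw [hcv, AlgHom.map_det]
    have hG : (rename e.symm).mapMatrix (Matrix.of fun i j => pderiv (γ' j) (g i)) =
        Matrix.of fun r c => pderiv (e.symm (γ' c)) (G r) := by
      refine Matrix.ext fun r c => ?_
      exact (pderiv_rename (R := R) e.symm.injective _ (g r)).symm
    rw [hG]
    have hmem := pow_mul_det_mem f (ι := Fin (m + 1)) (by simp) G J hJ (fun c => e.symm (γ' c))
    have h5 := (vanish_of_mem_span p' v (s := Set.range (crit f g0))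
      (by rintro _ ⟨r, rfl⟩; exact hcrit r) (by rintro _ ⟨r, rfl⟩; exact hv r) hmem).2
    have hM0 : p' (Matrix.of fun r c => pderiv (e.symm (γ' c)) (G r)).det = 0 := by
      rw [← hG, ← AlgHom.map_det, hp']
      exact hminor γ'
    rw [dvec_mul, hM0, zero_mul, add_zero, map_pow, mul_eq_zero] at h5
    exact h5.resolve_left (pow_ne_zero _ hdisc)

end Frame

end Groth.PlaneCurve.NodeNormal
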