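import Groth.Agent.PlaneCurve.NodeNormal.Normal

/-!
# The equations splitting a binary quadratic form
-/

universe u

open MvPolynomial Matrix

namespace Groth.PlaneCurve.NodeNormal

variable {R : Type u} [CommRing R] {m : ℕ} (f : Fin m → MvPolynomial (Vars m) R)
  (ξ : Vars m → R) (E qA qB qC : MvPolynomial (Vars m) R)

/-- The variables together with a root of the quadratic and an inverse. -/
abbrev Vars2 (m : ℕ) := Vars m ⊕ Fin 2

/-- The inclusion of the polynomials in the old variables. -/
noncomputable abbrev old : MvPolynomial (Vars m) R →ₐ[R] MvPolynomial (Vars2 m) R := rename Sum.inl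

/-- The root. -/
noncomputable abbrev rootVar : MvPolynomial (Vars2 m) R := X (Sum.inr 0)

/-- The inverse. -/
noncomputable abbrev invVar : MvPolynomial (Vars2 m) R := X (Sum.inr 1)

/-- The first factor. -/
noncomputable def splitU : MvPolynomial (Vars2 m) R :=
  old (coord ξ 0) - rootVar * old (coord ξ 1)

/-- The second factor. -/
noncomputable def splitV : MvPolynomial (Vars2 m) R :=
  invVar * (old qA * old (coord ξ 0) + (old qA * rootVar + old qB) * old (coord ξ 1))

/-- The quadratic equation of the root. -/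
noncomputable def splitQuad : MvPolynomial (Vars2 m) R :=
  old qA * rootVar ^ 2 + old qB * rootVar + old qC

/-- The system: factors, equations, root and inverse. -/
noncomputable def splitEq : Vars2 m → MvPolynomial (Vars2 m) R :=
  Sum.elim (Sum.elim ![splitU ξ, splitV ξ qA qB] (fun k => old (f k)))
    ![splitQuad qA qB qC, invVar * old E ^ 2 - 1]

theorem split_mul {T : Type u} [CommRing T] (η : MvPolynomial (Vars2 m) R →+* T)
    (hquad : η (splitQuad qA qB qC) = 0) (hinv : η (invVar * old E ^ 2 - 1) = 0)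
    (hf : ∀ k, η (old (f k)) = 0) (G : MvPolynomial (Vars m) R)
    (hG : E ^ 2 * G - (qA * coord ξ 0 ^ 2 + qB * coord ξ 0 * coord ξ 1 + qC * coord ξ 1 ^ 2) ∈
      Ideal.span (Set.range f)) :
    η (splitU ξ) * η (splitV ξ qA qB) = η (old G) := by
  have h0 : η (old (E ^ 2 * G -
      (qA * coord ξ 0 ^ 2 + qB * coord ξ 0 * coord ξ 1 + qC * coord ξ 1 ^ 2))) = 0 := by
    obtain ⟨c, hc⟩ := Ideal.mem_span_range_iff_exists_fun.1 hG
    rw [← hc]
    simp [map_sum, hf]
  simp only [splitQuad, map_add, map_mul, map_pow, map_sub, map_one] at hquad hinv h0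
  simp only [splitU, splitV, map_sub, map_add, map_mul]
  linear_combination (η (old G)) * hinv - η invVar * h0 -
    η invVar * η (old (coord ξ 1)) ^ 2 * hquad

theorem dvec_old {K : Type u} [CommRing K] (η : MvPolynomial (Vars2 m) R →+* K) (c : Vars2 m → K)
    (F : MvPolynomial (Vars m) R) :
    dvec η c (old F) = dvec (η.comp (old (R := R)).toRingHom) (c ∘ Sum.inl) F := by
  simp only [dvec]
  rw [Fintype.sum_sum_type]
  have h0 : ∀ l, pderiv (Sum.inr l) (old F) = 0 := fun l => by
    refine pderiv_eq_zero_of_notMem_vars fun hmem => ?_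
    have := vars_rename Sum.inl F hmem
    simp at this
  simp [h0, old, pderiv_rename Sum.inl_injective]

theorem splitEq_det_ne_zero {K : Type u} [Field K] (η : MvPolynomial (Vars2 m) R →+* K)
    (hz : ∀ i, η (splitEq f ξ E qA qB qC i) = 0) (hu : ∀ i, η (old (coord ξ i)) = 0)
    (hD : η (old (disc f)) ≠ 0) (hE : η (old E) ≠ 0)
    (hdisc : η (old (4 * qA * qC - qB ^ 2)) ≠ 0) :
    η (Matrix.of fun i j => pderiv j (splitEq f ξ E qA qB qC i)).det ≠ 0 := by
  classical
  have hquad : η (splitQuad qA qB qC) = 0 := hz (Sum.inr 0)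
  have hlin : η (2 * old qA * rootVar + old qB) ≠ 0 := by
    intro h0
    refine hdisc ?_
    simp only [splitQuad, map_add, map_mul, map_pow, map_sub, map_ofNat] at hquad h0 ⊢
    linear_combination 4 * η (old qA) * hquad -
      (2 * η (old qA) * η rootVar + η (old qB)) * h0
  refine det_ne_zero_of_dvec η _ fun c hc => ?_
  have hU := hc (Sum.inl (Sum.inl 0))
  have hV := hc (Sum.inl (Sum.inl 1))
  have hI : η invVar ≠ 0 := fun h0 => by
    have := hz (Sum.inr 1)
    simp [splitEq, h0] at this
  have hcoord : ∀ i, dvec η c (old (coord ξ i)) = c (Sum.inl (Sum.inl i)) := fun i => by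
    rw [dvec_old, coord, dvec_sub, dvec_X, dvec_C, sub_zero]; rfl
  simp only [splitEq, Sum.elim_inl, Matrix.cons_val_zero, Matrix.cons_val_one, splitU,
    splitV, dvec_sub, dvec_mul, dvec_add, map_add, map_mul, hu, hcoord, mul_zero, zero_mul,
    add_zero] at hU hV
  have hV' : η (old qA) * c (Sum.inl (Sum.inl 0)) +
      (η (old qA) * η rootVar + η (old qB)) * c (Sum.inl (Sum.inl 1)) = 0 :=
    (mul_eq_zero.1 hV).resolve_left hI
  simp only [map_add, map_mul, map_ofNat] at hlin
  have h1 : c (Sum.inl (Sum.inl 1)) = 0 :=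
    (mul_eq_zero.1 (show (2 * η (old qA) * η rootVar + η (old qB)) * c (Sum.inl (Sum.inl 1)) = 0 by
      linear_combination hV' - η (old qA) * hU)).resolve_left hlin
  have h0 : c (Sum.inl (Sum.inl 0)) = 0 := by linear_combination hU + η rootVar * h1
  have hinl : ∀ i, c (Sum.inl (Sum.inl i)) = 0 := fun i => by fin_cases i <;> assumption
  have hinr : ∀ l, c (Sum.inl (Sum.inr l)) = 0 := by
    intro l
    by_contra hne
    refine hD ?_
    have : ((η.comp (old (R := R)).toRingHom).mapMatrix (depMat f)).det = 0 := by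
      refine Matrix.exists_mulVec_eq_zero_iff.1 ⟨fun l => c (Sum.inl (Sum.inr l)),
        fun h => hne (congrFun h l), funext fun k => ?_⟩
      refine Eq.trans ?_ (hc (Sum.inl (Sum.inr k)))
      simp only [splitEq, Sum.elim_inl, Sum.elim_inr]
      rw [dvec_old]
      simp [dvec, Fintype.sum_sum_type, hinl, Matrix.mulVec, dotProduct, depMat, mul_comm]
    rw [← RingHom.map_det] at this
    exact this
  have hold : ∀ F, dvec η c (old F) = 0 := fun F => by
    rw [dvec_old, dvec]
    refine Finset.sum_eq_zero fun v _ => ?_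
    rcases v with i | l
    · simp [hinl]
    · simp [hinr]
  have hT := hc (Sum.inr 0)
  have he := hc (Sum.inr 1)
  simp only [splitEq, Sum.elim_inr, Matrix.cons_val_zero, Matrix.cons_val_one, splitQuad, sq,
    dvec_sub, dvec_one, dvec_mul, dvec_add, map_mul, hold, dvec_X, mul_zero, zero_mul, add_zero,
    zero_add, sub_zero] at hT he
  have hT0 : c (Sum.inr 0) = 0 :=
    (mul_eq_zero.1 (show (2 * η (old qA) * η rootVar + η (old qB)) * c (Sum.inr 0) = 0 by
      linear_combination hT)).resolve_left hlin
  have he0 : c (Sum.inr 1) = 0 := (mul_eq_zero.1 he).resolve_left (mul_ne_zero hE hE)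
  funext v
  rcases v with (i | l) | i
  · exact hinl i
  · exact hinr l
  · fin_cases i <;> assumption

theorem exists_root_quadratic {K : Type u} [Field K] [IsAlgClosed K] {a b c : K}
    (h : 4 * a * c - b ^ 2 ≠ 0) : ∃ t, a * t ^ 2 + b * t + c = 0 := by
  by_cases ha : a = 0
  · have hb : b ≠ 0 := fun hb => h (by rw [ha, hb]; ring)
    exact ⟨-c / b, by rw [ha]; field_simp; ring⟩
  · obtain ⟨t, ht⟩ := IsAlgClosed.exists_root
      (Polynomial.C a * Polynomial.X ^ 2 + Polynomial.C b * Polynomial.X + Polynomial.C c)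
      (by rw [Polynomial.degree_quadratic ha]; decide)
    exact ⟨t, by simpa [Polynomial.IsRoot] using ht⟩

end Groth.PlaneCurve.NodeNormal
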